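import Groth.Prelude.Def_Jac
import Groth.Agent.AbVar.K512.PoincPow
import Groth.Agent.AbVar.K528.MumZero
import Groth.Agent.AbDual.K732.Transp
import Groth.Agent.AbDual.K732.AV
import Groth.Agent.AbDual.K732.Bidual
import Groth.Agent.Grpsch.Cube

/-!
# Classes on `J × J` for a principally polarised abelian variety `J`

`(J, L)` with self duality `φ` such that `φ_L = 𝟙 J`.

* `isTranspose_pow` : the transpose of `[n]` is `[n]`;
* `lam_one` : the Mumford class of `L` corresponds to `𝟙 J`;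
* `lam_inv_pow` : the Mumford class of `L^(-n)` corresponds to `[n]⁻¹`;
* `mk_poinc` : the Poincaré class is the Mumford class of `L`.
-/

set_option autoImplicit false
universe u

open CategoryTheory CategoryTheory.Limits MonoidalCategory CartesianMonoidalCategory MonObj GrpObj
  AlgebraicGeometry

namespace K242.Cls

open Groth.Agent.Grpsch Groth.Agent.Grpsch.PicGrp Groth.Agent.Fga.RigGrp Groth.Agent.Grpsch.Cube K732.PicZero K732.Dual
open K732.Transp K512.PoincPow
open K528.MumZero (mumCl)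

variable {k : Type u} [Field k]

section gen

variable {A At : Over (Spec (CommRingCat.of k))} [GrpObj A] [GrpObj At]
  [IsProper A.hom] [Smooth A.hom] [GeometricallyConnected A.hom] [LocallyOfFiniteType At.hom]
  [GeometricallyConnected At.hom] {φ : ∀ T : Over (Spec (CommRingCat.of k)), PicF.Cl (PicF.XT A.hom T) → (T ⟶ At)}

/-- The transpose of `[n]` is `[n]`. -/
theorem isTranspose_pow (hφ : AbDual.IsDualAV Scheme.fppfPrecoverage A At φ) (n : ℕ) :
    AbDual.IsTranspose (𝟙 A ^ n) φ φ (𝟙 At ^ n) := by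
  have := K732.AV.geomInt A
  obtain ⟨ξ, h1, h2, h3⟩ := exists_poinc hφ (K732.AV.hF A)
  rw [isTranspose_iff hφ hφ (K732.AV.hF A) h1 h2 h3, pull_bcMap_pow hφ h1 h2, cm_pow hφ h1, h3]

end gen

theorem mumCl_inv {S : Scheme.{u}} (A : Over S) [GrpObj A] (c : Pic A.left) :
    mumCl A c⁻¹ = (mumCl A c)⁻¹ := by
  simp only [mumCl, map_inv, _root_.mul_inv]

theorem mumCl_mul {S : Scheme.{u}} (A : Over S) [GrpObj A] (c d : Pic A.left) :
    mumCl A (c * d) = mumCl A c * mumCl A d := by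
  simp only [mumCl, map_mul, _root_.mul_inv]
  rw [mul_mul_mul_comm (pull _ c), mul_mul_mul_comm (pull _ c * _)]

theorem mumCl_one {S : Scheme.{u}} (A : Over S) [GrpObj A] : mumCl A 1 = 1 := by
  simp only [mumCl, map_one, inv_one, _root_.mul_one]

theorem mumCl_pow {S : Scheme.{u}} (A : Over S) [GrpObj A] (c : Pic A.left) (n : ℕ) :
    mumCl A (c ^ n) = mumCl A c ^ n := by
  induction n with
  | zero => rw [pow_zero, pow_zero, mumCl_one]
  | succ n ih => rw [pow_succ, pow_succ, mumCl_mul, ih]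

section self

variable {J : Over (Spec (CommRingCat.of k))} [GrpObj J] [IsProper J.hom] [Smooth J.hom] [GeometricallyConnected J.hom]
  {φ : AgPol.DualMap J J} {L : J.left.Modules}

theorem mumCl_mem_pz (c : Pic J.left) : mumCl J c ∈ pz J.hom J := K528.MumZero.fibZero_mumCl J c

theorem mumCl_mem_rg (c : Pic J.left) : mumCl J c ∈ rg J J := by
  rw [K732.Prim.mem_rg_iff]
  refine (K528.MumZero.pull_lift_mumCl J c _ _).trans ?_
  have h : pull ((1 : J ⟶ J)).left c = 1 := Groth.Agent.Grpsch.Cube.pl_one c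
  rw [_root_.one_mul, h, inv_one, _root_.mul_one, mul_inv_cancel]

/-- `φ_L = 𝟙`. -/
theorem lam_one (hsd : Jac.IsSelfDual Scheme.fppfPrecoverage J φ L) (hL : PicF.IsInvertible L) :
    cm φ (mumCl J (PicGrp.mk L hL)) = 𝟙 J := by
  obtain ⟨N, hN, h1, h2⟩ := hsd.2
  rw [← K528.MumZero.mk_eq_mumCl J hL hN h1]
  exact h2

theorem lam_inv_pow (hsd : Jac.IsSelfDual Scheme.fppfPrecoverage J φ L) (hL : PicF.IsInvertible L) (n : ℕ) :
    cm φ (mumCl J ((PicGrp.mk L hL) ^ n)⁻¹) = (𝟙 J ^ n)⁻¹ := by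
  rw [mumCl_inv, mumCl_pow, cm_inv hsd.1 (pow_mem (mumCl_mem_pz _) n), cm_pow hsd.1 (mumCl_mem_pz _),
    lam_one hsd hL]

/-- The Poincaré class is the Mumford class of `L`. -/
theorem mk_poinc (hsd : Jac.IsSelfDual Scheme.fppfPrecoverage J φ L) (hL : PicF.IsInvertible L)
    {P : (PicF.XT J.hom J).Modules} (hP : PicF.IsInvertible P) (hPP : AbDual.IsPoincareCl J J φ (PicF.cl P)) :
    PicGrp.mk P hP = mumCl J (PicGrp.mk L hL) := by
  obtain ⟨ζ, h1, h2, h3, h4⟩ := K732.AV.exists_of_isPoincareCl hPP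
  have eζ : ζ = PicGrp.mk P hP := toCl_injective h4
  subst eζ
  refine cm_inj hsd.1 (K732.AV.hF J) h1 (mumCl_mem_pz _) h2 (mumCl_mem_rg _) ?_
  rw [h3, lam_one hsd hL]

end self

end K242.Cls
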