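import Groth.Agent.AbVar.K512.FMPull
import Groth.Agent.AbVar.K512.PoincFib
import Groth.Agent.PerfC.RpushSingle
import Groth.Agent.PerfB.FibreConc
import Groth.Agent.Dual.H360.ProjAff
import Groth.Agent.PerfA.PointHom

/-!
# The transforms `T_n M = R^n q_* (p^* M ⊗ P)` through the derived category

* `lpullInD`, `ltInD` : `Lf^*(M[0]) = (f^*M)[0]` for `f` flat, `M[0] ⊗^L P = (M ⊗ P)[0]` for `P` invertible;
* `T p q P n` : the functor `M ↦ R^n q_* (p^* M ⊗ P)`, additive;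
* `TIso` : `T_n M ≅ H^n(Φ_P (M[0]))`.
-/

set_option autoImplicit false
universe u

open CategoryTheory CategoryTheory.Limits AlgebraicGeometry
attribute [local instance] HasDerivedCategory.standard

namespace K242.Der

open Groth.Agent Groth.Agent.PerfB.TensExact Groth.Agent.PerfB.TensInv Groth.Agent.Dcoh.MapDer
  Groth.Agent.Dcoh.DerPull

variable {X Y W : Scheme.{u}}

/-- `Lf^*(M[0]) ≅ (f^* M)[0]` for `f` flat. -/
noncomputable def lpullInD (f : X ⟶ Y) [Flat f] [DCoh.HasLpull f] (M : Y.Modules) :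
    (DCoh.Lpull f).obj (DCoh.inD Y M) ≅ DCoh.inD X ((Scheme.Modules.pullback f).obj M) :=
  (PerfB.FlatPull.lpullIso f).app _ ≪≫
    ((Scheme.Modules.pullback f).mapDerivedCategorySingleFunctor 0).app M

/-- `M[0] ⊗^L P ≅ (M ⊗ P)[0]` for `P` invertible. -/
noncomputable def ltInD {P : X.Modules} (hP : PicF.IsInvertible P) [DCoh.HasLTensorMod P] (M : X.Modules) :
    (DCoh.LTensorMod P).obj (DCoh.inD X M) ≅ DCoh.inD X (CohB1.tensorMod M P) :=
  haveI := K512.FMIso.pfl hP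
  (LTensorModIso P).app _ ≪≫ ((DCoh.tensorRightMod P).mapDerivedCategorySingleFunctor 0).app M

variable (p : W ⟶ X) (q : W ⟶ Y) (P : W.Modules)

/-- The functor `M ↦ R^n q_* (p^* M ⊗ P)`. -/
noncomputable def T [HasInjectiveResolutions W.Modules] (n : ℕ) : X.Modules ⥤ Y.Modules :=
  Scheme.Modules.pullback p ⋙ DCoh.tensorRightMod P ⋙ Coh.Rpush q n

instance [HasInjectiveResolutions W.Modules] (n : ℕ) : (T p q P n).Additive := by
  unfold T
  infer_instance

/-- `T_n M ≅ H^n(Φ_P(M[0]))`. -/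
noncomputable def TIso [HasInjectiveResolutions W.Modules] [Flat p] (hP : PicF.IsInvertible P)
    [DCoh.HasLpull p] [DCoh.HasLTensorMod P] [DCoh.HasRpush q] (n : ℕ) (M : X.Modules) :
    DCoh.HD ((DCoh.Lpull p ⋙ DCoh.LTensorMod P ⋙ DCoh.Rpush q).obj (DCoh.inD X M)) n ≅ (T p q P n).obj M :=
  (DerivedCategory.homologyFunctor Y.Modules n).mapIso ((DCoh.Rpush q).mapIso
    ((DCoh.LTensorMod P).mapIso (lpullInD p M) ≪≫ ltInD hP _)) ≪≫ PerfC.RpushSingle.iso q n _

end K242.Der
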