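import Groth.Agent.BunMod.K242.DetVal
import Groth.Agent.BunMod.K890.Seed
import Groth.Agent.BunMod.K524.X1Open

/-!
# DETVAL for the subbundles of the cokernel family (S16926)
-/

set_option autoImplicit false
universe u

open CategoryTheory CategoryTheory.Limits AlgebraicGeometry MonoidalCategory CartesianMonoidalCategory
open scoped MonObj
open scoped Groth.Agent.Dcoh.MonCat

namespace K242.DetSub

open K140.BM K451.DetPic K524.X1Fam K890.KS K890.Seed K242.DetVal K757.Root Groth.Agent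

variable {k : Type u} [Field k] {X : Scheme.{u}} [X.Over (Spec (CommRingCat.of k))] {K G : X.Modules} {M : ℕ}

/-- The determinant of the cokernel family is constant, over every base where the cokernel is locally free. -/
theorem isExtPow_FE (e : Fin M → (K ⟶ G)) {n : ℕ} {D D₀ : X.Modules} (hK : PicF.IsInvertible K)
    (hG : FlatMod.IsFinLocFreeOfRank (n + 1) G) (hD : ExtPow.IsExtPow (1 + n) G D) (hD₀ : PicF.IsInvertible D₀)
    (hKD : Nonempty (CohB1.tensorMod K D₀ ≅ D)) (T : Over (B0 k)) (c : Fin M → Γ(T.left, ⊤))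
    (h : FlatMod.IsFinLocFreeOfRank n (FE e T c)) : ExtPow.IsExtPow n (FE e T c) (cst k T D₀) := by
  have hK1 : FlatMod.IsFinLocFreeOfRank 1 K := Ega2.QCohLocal.isFinLocFreeOfRank_one_iff.mpr hK
  have hKT : FlatMod.IsFinLocFreeOfRank 1 (cst k T K) := PerfB.FibreConc.isFinLocFreeOfRank_pullback _ hK1
  have hGT : FlatMod.IsFinLocFreeOfRank (n + 1) (cst k T G) := PerfB.FibreConc.isFinLocFreeOfRank_pullback _ hG
  have hm : Mono (uu e T c) := K524.X1Coker.mono_of_rank hKT hGT _ h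
  have hS : (ShortComplex.mk (uu e T c) (cokernel.π (uu e T c)) (cokernel.condition _)).ShortExact :=
    { exact := ShortComplex.exact_cokernel _
      mono_f := hm
      epi_g := inferInstanceAs (Epi (cokernel.π (uu e T c))) }
  exact isExtPow_cst hS hK1 (by rwa [add_comm]) h hD hD₀ hKD

variable {e : Fin M → (K ⟶ G)} {R : Type u} [CommRing R] [Algebra k R] {c : Fin M → R} {N : X.Modules} {r m : ℕ}

/-- The rank of `V_c`. -/
theorem rank_VA (s : SubFam k e R c N r m) : FlatMod.IsFinLocFreeOfRank (r + m) (VA (k := k) e R c) :=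
  rank_extension s.ex s.hS s.hQ

/-- The determinant of `V_c`. -/
theorem isExtPow_VA (s : SubFam k e R c N r m) {D D₀ : X.Modules} (hK : PicF.IsInvertible K)
    (hG : FlatMod.IsFinLocFreeOfRank (r + m + 1) G) (hD : ExtPow.IsExtPow (1 + (r + m)) G D)
    (hD₀ : PicF.IsInvertible D₀) (hKD : Nonempty (CohB1.tensorMod K D₀ ≅ D)) :
    ExtPow.IsExtPow (r + m) (VA (k := k) e R c) (cst k (SpA k R) D₀) :=
  isExtPow_FE e hK hG hD hD₀ hKD _ _ (rank_VA s)

variable [IsProper (X ↘ Spec (CommRingCat.of k))] [Smooth (X ↘ Spec (CommRingCat.of k))]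
  [GeometricallyConnected (X ↘ Spec (CommRingCat.of k))] (hdim : topologicalKrullDim ↥X = 1)
  {J : Over (B0 k)} [GrpObj J] {ψ : (ModFun.PicDeg (st k X) 0).Hom ⊤ J} (hJ : Jac.IsJacobian (st k X) ⊤ J ψ)
  {M₁ M₂ : Over (B0 k)} {φ₁ : (BunMod.USS (st k X) r 0).Hom ⊤ M₁} {φ₂ : (BunMod.USS (st k X) m 0).Hom ⊤ M₂}
  {d₁ : M₁ ⟶ J} (hd₁ : BunMod.IsDetMap (st k X) (BunMod.ussOK (st k X) r 0) φ₁ 0 ψ d₁)
  {d₂ : M₂ ⟶ J} (hd₂ : BunMod.IsDetMap (st k X) (BunMod.ussOK (st k X) m 0) φ₂ 0 ψ d₂)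
  (hN : PicF.IsInvertible N) {D D₀ ζ : X.Modules} (hK : PicF.IsInvertible K)
  (hG : FlatMod.IsFinLocFreeOfRank (r + m + 1) G) (hD : ExtPow.IsExtPow (1 + (r + m)) G D)
  (hKD : Nonempty (CohB1.tensorMod K D₀ ≅ D))
  (hζi : PicF.IsInvertible ζ) (e₀ : Nonempty (CohB1.tensorMod ζ (CohB1.tensorPow N m) ≅ D₀))

omit [X.Over (Spec (CommRingCat.of k))] [IsProper (X ↘ Spec (CommRingCat.of k))]
  [Smooth (X ↘ Spec (CommRingCat.of k))] [GeometricallyConnected (X ↘ Spec (CommRingCat.of k))] in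
include hN hζi e₀ in
theorem inv_D₀ : PicF.IsInvertible D₀ := by
  obtain ⟨i⟩ := e₀
  exact rank_one_iff.1 (rank_of_iso i (rank_one_iff.2 (K757.Fam.inv_tens hζi (K757.DetM0.inv_pow hN m))))

include hdim hJ hd₁ hd₂ hN hK hG hD hKD hζi e₀ in
/-- **(DETVAL)** for a subbundle of the cokernel family. -/
theorem app_eq (s : SubFam k e R c N r m) (hζ : (ModFun.PicDeg (st k X) 0).ok (SpA k R) (cst k (SpA k R) ζ)) :
    (φ₁.app (SpA k R) s.E trivial ⟨trivial, s.okE⟩ ≫ d₁)⁻¹ * (φ₂.app (SpA k R) s.F trivial ⟨trivial, s.okF⟩ ≫ d₂) =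
      ψ.app (SpA k R) (cst k (SpA k R) ζ) trivial hζ :=
  K242.DetVal.app_eq hdim hJ hd₁ hd₂ s.ex _ _ s.hS s.hQ (Du.right s.pair) hN hζi hζ s.tw
    (isExtPow_VA s hK hG hD (inv_D₀ hN hζi e₀) hKD) e₀

include hdim hJ hd₁ hd₂ hN hK hG hD hKD hζi e₀ in
/-- **(DETVAL)** for a subbundle of the cokernel family, as a constant point. -/
theorem app_eq_pt (s : SubFam k e R c N r m)
    (hζ : ∀ T : Over (Spec (CommRingCat.of k)), (ModFun.PicDeg (st k X) 0).ok T (K757.Fam.cst (st k X) T ζ)) :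
    (φ₁.app (SpA k R) s.E trivial ⟨trivial, s.okE⟩ ≫ d₁)⁻¹ * (φ₂.app (SpA k R) s.F trivial ⟨trivial, s.okF⟩ ≫ d₂) =
      toUnit (SpA k R) ≫ ptJ ψ hζ :=
  K242.DetVal.app_eq_pt hdim hJ hd₁ hd₂ s.ex _ _ s.hS s.hQ (Du.right s.pair) hN hζi hζ s.tw
    (isExtPow_VA s hK hG hD (inv_D₀ hN hζi e₀) hKD) e₀

end K242.DetSub
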