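import Groth.Agent.BunMod.K319.Teq
import Groth.Agent.BunMod.K757.Root
import Groth.Agent.AbSch.K450.KeyAb
import Groth.Agent.MorSch.K921.PullDual

/-!
# The determinants of the two pieces of an extension (S16926, node DETVAL)

`0 ⟶ S ⟶ V ⟶ Q ⟶ 0` on `X_T`, `E` dual to `S`, `F ⊗ N ≅ Q`, `det V ≅ ζ ⊗ N^m` constant: the point
`det(E)⁻¹ det(F)` of the Jacobian is the constant point `ζ`.
-/

set_option autoImplicit false
universe u

open CategoryTheory CategoryTheory.Limits AlgebraicGeometry MonoidalCategory CartesianMonoidalCategory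
open scoped MonObj
open scoped Groth.Agent.Dcoh.MonCat

namespace K242.DetVal

open K140.BM K451.DetPic Groth.Agent.Grpsch Groth.Agent.Grpsch.PicGrp K757.Root K757.DetM0

section cls

variable {Y : Scheme.{u}}

/-- `det Q = det F · N^m` for `F ⊗ N ≅ Q`. -/
theorem det_tw {m : ℕ} {F N Q : Y.Modules} (hF : FlatMod.IsFinLocFreeOfRank m F) (hN : PicF.IsInvertible N)
    (hQ : FlatMod.IsFinLocFreeOfRank m Q) (e : Nonempty (CohB1.tensorMod F N ≅ Q)) :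
    det m Q hQ = det m F hF * mk N hN ^ m := by
  obtain ⟨e⟩ := e
  have h1 := rank_one_iff.2 hN
  have h2 := det_tensor hF h1
  rw [pow_one, det_one h1 hN] at h2
  rw [← h2]
  exact det_congr _ _ (mul_one m).symm e.symm

/-- `E` is a dual of `S` (any of the usual forms). -/
def Du (E S : Y.Modules) : Prop :=
  Nonempty (ExactPairing E S) ∨ Nonempty (ExactPairing S E) ∨ Nonempty (E ≅ RefHull.dual S)

theorem Du.left {E S : Y.Modules} (h : Nonempty (ExactPairing E S)) : Du E S := Or.inl h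

theorem Du.right {E S : Y.Modules} (h : Nonempty (ExactPairing S E)) : Du E S := Or.inr (Or.inl h)

theorem Du.iso {E S : Y.Modules} (h : Nonempty (E ≅ RefHull.dual S)) : Du E S := Or.inr (Or.inr h)

theorem Du.dual (S : Y.Modules) : Du (RefHull.dual S) S := Du.iso ⟨Iso.refl _⟩

/-- `det(E) · det(S) = 1` for dual modules. -/
theorem det_dual {r : ℕ} {E S : Y.Modules} (p : Du E S)
    (hE : FlatMod.IsFinLocFreeOfRank r E) (hS : FlatMod.IsFinLocFreeOfRank r S) :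
    det r E hE * det r S hS = 1 := by
  rcases p with ⟨⟨p⟩⟩ | ⟨⟨p⟩⟩ | ⟨⟨p⟩⟩
  · rw [K450.KeyAb.det_pairing p hE hS, mul_inv_cancel]
  · rw [K450.KeyAb.det_pairing p hS hE, inv_mul_cancel]
  · obtain ⟨V, ⟨h⟩⟩ := Groth.Agent.Dcoh.DualFLF.exists_exactPairing (isFinLocFree_of_rank hS)
    have hV := K450.KeyAb.rank_pairing h hS
    rw [det_congr hE hV rfl (p ≪≫ K921.PullDual.dualIso S V), K450.KeyAb.det_pairing h hS hV, inv_mul_cancel]

/-- **The determinants of the pieces**: `det F ≅ det E ⊗ ζ`. -/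
theorem nonempty_det {r m : ℕ} {C : ShortComplex Y.Modules} (hC : C.ShortExact) {E F N ζ D₀ D₁ D₂ : Y.Modules}
    (hE : FlatMod.IsFinLocFreeOfRank r E) (hF : FlatMod.IsFinLocFreeOfRank m F)
    (hS : FlatMod.IsFinLocFreeOfRank r C.X₁) (hQ : FlatMod.IsFinLocFreeOfRank m C.X₃)
    (p : Du E C.X₁)
    (hN : PicF.IsInvertible N) (hζ : PicF.IsInvertible ζ) (hD₀ : PicF.IsInvertible D₀)
    (e : Nonempty (CohB1.tensorMod F N ≅ C.X₃)) (hV : ExtPow.IsExtPow (r + m) C.X₂ D₀)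
    (e₀ : Nonempty (CohB1.tensorMod ζ (CohB1.tensorPow N m) ≅ D₀))
    (hD₁ : ExtPow.IsExtPow r E D₁) (hD₂ : ExtPow.IsExtPow m F D₂)
    (hD₁i : PicF.IsInvertible D₁) (hD₂i : PicF.IsInvertible D₂) :
    Nonempty (D₂ ≅ CohB1.tensorMod D₁ ζ) := by
  have h1 := det_extension hC hS hQ
  rw [det_tw hF hN hQ e, ← mk_eq_det (rank_extension hC hS hQ) hV hD₀] at h1
  have h2 : mk D₀ hD₀ = mk ζ hζ * mk N hN ^ m := by
    rw [← mk_tensorPow hN m, mk_mul_mk]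
    exact ((mk_eq_iff _ _).2 e₀).symm
  have h3 := det_dual p hE hS
  rw [h2] at h1
  have h4 : mk D₂ hD₂i = mk D₁ hD₁i * mk ζ hζ := by
    rw [mk_eq_det hF hD₂, mk_eq_det hE hD₁]
    have h5 : mk ζ hζ = det r C.X₁ hS * det m F hF := by
      have := mul_right_cancel (h1.trans (mul_assoc _ _ _).symm)
      exact this
    rw [h5, ← mul_assoc, h3, one_mul]
  rw [mk_mul_mk] at h4
  exact (mk_eq_iff _ _).1 h4

/-- The determinant of a cokernel: `det V = D₀` for `0 ⟶ K ⟶ G ⟶ V ⟶ 0`, `K ⊗ D₀ ≅ det G`. -/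
theorem isExtPow_coker {n : ℕ} {C : ShortComplex Y.Modules} (hC : C.ShortExact) {D D₀ : Y.Modules}
    (hK : FlatMod.IsFinLocFreeOfRank 1 C.X₁) (hV : FlatMod.IsFinLocFreeOfRank n C.X₃)
    (hD : ExtPow.IsExtPow (1 + n) C.X₂ D) (hD₀ : PicF.IsInvertible D₀)
    (e : Nonempty (CohB1.tensorMod C.X₁ D₀ ≅ D)) : ExtPow.IsExtPow n C.X₃ D₀ := by
  obtain ⟨D', hD'i, hD'⟩ := exists_det hV
  have hKi := rank_one_iff.1 hK
  have hDi : PicF.IsInvertible D := by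
    obtain ⟨i⟩ := e
    exact rank_one_iff.1 (rank_of_iso i (rank_one_iff.2 (K757.Fam.inv_tens hKi hD₀)))
  have h1 := det_extension hC hK hV
  rw [det_one hK hKi, ← mk_eq_det (rank_extension hC hK hV) hD hDi, ← mk_eq_det hV hD' hD'i] at h1
  have h2 : mk D hDi = mk C.X₁ hKi * mk D₀ hD₀ := by
    rw [mk_mul_mk]
    exact ((mk_eq_iff _ _).2 e).symm
  exact det_iso hD' ((mk_eq_iff _ _).1 (mul_left_cancel (h1.symm.trans h2)))

end cls

/-- The determinant of the cokernel family: constant. -/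
theorem isExtPow_cst {k : Type u} [Field k] {X : Scheme.{u}} [X.Over (Spec (CommRingCat.of k))] {T : Over (B0 k)}
    {n : ℕ} {K G D D₀ : X.Modules} {V : (PicF.XT (st k X) T).Modules} {u : cst k T K ⟶ cst k T G}
    {p : cst k T G ⟶ V} {w : u ≫ p = 0} (hC : (ShortComplex.mk u p w).ShortExact)
    (hK : FlatMod.IsFinLocFreeOfRank 1 K) (hG : FlatMod.IsFinLocFreeOfRank (1 + n) G)
    (hV : FlatMod.IsFinLocFreeOfRank n V) (hD : ExtPow.IsExtPow (1 + n) G D) (hD₀ : PicF.IsInvertible D₀)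
    (e : Nonempty (CohB1.tensorMod K D₀ ≅ D)) : ExtPow.IsExtPow n V (cst k T D₀) :=
  isExtPow_coker (Y := PicF.XT (st k X) T) hC
    (rank_one_iff.2 (K757.Fam.inv_pull _ (rank_one_iff.1 hK))) hV (det_pull _ hG hD)
    (K757.Fam.inv_pull _ hD₀) (cst_mul (f := st k X) T e)

section curve

variable {k : Type u} [Field k] {X : Scheme.{u}} [X.Over (Spec (CommRingCat.of k))]
  [IsProper (X ↘ Spec (CommRingCat.of k))] [Smooth (X ↘ Spec (CommRingCat.of k))]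
  [GeometricallyConnected (X ↘ Spec (CommRingCat.of k))] (hdim : topologicalKrullDim ↥X = 1)
  {J : Over (B0 k)} [GrpObj J] {ψ : (ModFun.PicDeg (st k X) 0).Hom ⊤ J} (hJ : Jac.IsJacobian (st k X) ⊤ J ψ)
  {r m : ℕ} {M₁ M₂ : Over (B0 k)} {φ₁ : (BunMod.USS (st k X) r 0).Hom ⊤ M₁} {φ₂ : (BunMod.USS (st k X) m 0).Hom ⊤ M₂}
  {d₁ : M₁ ⟶ J} (hd₁ : BunMod.IsDetMap (st k X) (BunMod.ussOK (st k X) r 0) φ₁ 0 ψ d₁)
  {d₂ : M₂ ⟶ J} (hd₂ : BunMod.IsDetMap (st k X) (BunMod.ussOK (st k X) m 0) φ₂ 0 ψ d₂)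

include hdim hJ hd₁ hd₂

/-- **(DETVAL)** `det(E)⁻¹ det(F) = ζ`. -/
theorem app_eq {T : Over (B0 k)} {C : ShortComplex (PicF.XT (st k X) T).Modules} (hC : C.ShortExact)
    {E F : (PicF.XT (st k X) T).Modules} (hE : (BunMod.USS (st k X) r 0).ok T E)
    (hF : (BunMod.USS (st k X) m 0).ok T F)
    (hS : FlatMod.IsFinLocFreeOfRank r C.X₁) (hQ : FlatMod.IsFinLocFreeOfRank m C.X₃)
    (p : Du E C.X₁)
    {N ζ : X.Modules} (hN : PicF.IsInvertible N) (hζi : PicF.IsInvertible ζ)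
    (hζ : (ModFun.PicDeg (st k X) 0).ok T (cst k T ζ))
    (e : Nonempty (CohB1.tensorMod F (cst k T N) ≅ C.X₃)) {D₀ : X.Modules}
    (hV : ExtPow.IsExtPow (r + m) C.X₂ (cst k T D₀))
    (e₀ : Nonempty (CohB1.tensorMod ζ (CohB1.tensorPow N m) ≅ D₀)) :
    (φ₁.app T E trivial hE ≫ d₁)⁻¹ * (φ₂.app T F trivial hF ≫ d₂) = ψ.app T (cst k T ζ) trivial hζ := by
  obtain ⟨D₁, hD₁i, hD₁⟩ := exists_det hE.2.1
  obtain ⟨D₂, hD₂i, hD₂⟩ := exists_det hF.2.1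
  have hok₁ := picDeg_det hdim hE.2 hD₁
  have hok₂ := picDeg_det hdim hF.2 hD₂
  have hN' : PicF.IsInvertible (cst k T N) := K757.Fam.inv_pull _ hN
  have hζ' : PicF.IsInvertible (cst k T ζ) := K757.Fam.inv_pull _ hζi
  have e₁ : Nonempty (CohB1.tensorMod (cst k T ζ) (CohB1.tensorPow (cst k T N) m) ≅ cst k T D₀) := by
    obtain ⟨i1⟩ := pull_pow (pullback.fst (st k X) T.hom) N m
    obtain ⟨i2⟩ := cst_mul (f := st k X) T e₀
    exact ⟨Groth.Agent.ASBun.K791.Tens.tensMap (Iso.refl _) i1.symm ≪≫ i2⟩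
  have hD₀ : PicF.IsInvertible (cst k T D₀) := by
    obtain ⟨i⟩ := e₁
    exact (rank_one_iff.1 (rank_of_iso i (rank_one_iff.2 (K757.Fam.inv_tens hζ' (inv_pow hN' m)))))
  have h1 := nonempty_det hC hE.2.1 hF.2.1 hS hQ p hN' hζ' hD₀ e hV e₁ hD₁ hD₂ hD₁i hD₂i
  rw [dm_eq hd₁ hE hD₁ hok₁, dm_eq hd₂ hF hD₂ hok₂,
    K319.Sect.app_congrJ ψ h1 hok₂ (K319.Teq.picDeg_tensor hdim hok₁ hζ),
    K319.Teq.app_tensorJ hdim hJ hok₁ hζ, inv_mul_cancel_left]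

/-- **(DETVAL)**, as a constant point. -/
theorem app_eq_pt {T : Over (B0 k)} {C : ShortComplex (PicF.XT (st k X) T).Modules} (hC : C.ShortExact)
    {E F : (PicF.XT (st k X) T).Modules} (hE : (BunMod.USS (st k X) r 0).ok T E)
    (hF : (BunMod.USS (st k X) m 0).ok T F)
    (hS : FlatMod.IsFinLocFreeOfRank r C.X₁) (hQ : FlatMod.IsFinLocFreeOfRank m C.X₃)
    (p : Du E C.X₁)
    {N ζ : X.Modules} (hN : PicF.IsInvertible N) (hζi : PicF.IsInvertible ζ)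
    (hζ : ∀ T : Over (Spec (CommRingCat.of k)), (ModFun.PicDeg (st k X) 0).ok T (K757.Fam.cst (st k X) T ζ))
    (e : Nonempty (CohB1.tensorMod F (cst k T N) ≅ C.X₃)) {D₀ : X.Modules}
    (hV : ExtPow.IsExtPow (r + m) C.X₂ (cst k T D₀))
    (e₀ : Nonempty (CohB1.tensorMod ζ (CohB1.tensorPow N m) ≅ D₀)) :
    (φ₁.app T E trivial hE ≫ d₁)⁻¹ * (φ₂.app T F trivial hF ≫ d₂) = toUnit T ≫ ptJ ψ hζ :=
  (app_eq hdim hJ hd₁ hd₂ hC hE hF hS hQ p hN hζi (hζ T) e hV e₀).trans (toUnit_ptJ ψ hζ T).symm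

end curve

end K242.DetVal
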