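import Groth.Agent.SDiv.K476.HomSh6
import Groth.Agent.IntSh.K879.DualCmp
import Groth.Agent.RefCh.K939.FlatDual

/-!
# The dual of a finite sum

`nonempty_dual_sum` : `(⊕ F_i)^∨ ≅ ⊕ F_i^∨`; `nonempty_dual_copies`.
-/

set_option autoImplicit false
universe u

open CategoryTheory CategoryTheory.Limits AlgebraicGeometry

namespace K242.DualSum

open RefHull Groth.Agent K476.HomSh1

noncomputable section

variable {X Y : Scheme.{u}} {F G : X.Modules}

theorem dualMap_add (φ ψ : F ⟶ G) : dualMap (φ + ψ) = dualMap φ + dualMap ψ :=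
  hom_ext_homSh (fun U g x => by
    rw [preComp_app_apply, stalkMapₗ_add, LinearMap.comp_add]; rfl)

/-- The dual as an additive map. -/
def dualHom (F G : X.Modules) : (F ⟶ G) →+ (dual G ⟶ dual F) where
  toFun φ := dualMap φ
  map_add' := dualMap_add
  map_zero' := by
    have h := dualMap_add (0 : F ⟶ G) 0
    rw [add_zero] at h
    exact (left_eq_add.1 h)

theorem dualMap_zero : dualMap (0 : F ⟶ G) = 0 := (dualHom F G).map_zero

instance : HasFiniteBiproducts X.Modules := HasFiniteBiproducts.of_hasFiniteProducts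

/-- The dual of a biproduct of copies of `M`. -/
def bic (M : X.Modules) {ι : Type} [Fintype ι] [DecidableEq ι] : Bicone (fun _ : ι => dual M) where
  pt := dual (⨁ fun _ : ι => M)
  π i := dualMap (biproduct.ι (fun _ : ι => M) i)
  ι i := dualMap (biproduct.π (fun _ : ι => M) i)
  ι_π i j := by
    rw [← dualMap_comp, biproduct.ι_π]
    by_cases h : i = j
    · subst h
      simp [dualMap_id]
    · rw [dif_neg h, dif_neg (Ne.symm h)]
      exact dualMap_zero

theorem nonempty_dual_biproduct (M : X.Modules) (n : ℕ) :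
    Nonempty (dual (⨁ fun _ : Fin n => M) ≅ ⨁ fun _ : Fin n => dual M) := by
  have h : (bic M (ι := Fin n)).IsBilimit := isBilimitOfTotal _ (by
    have h1 : ∀ j : Fin n, (bic M (ι := Fin n)).π j ≫ (bic M (ι := Fin n)).ι j =
        dualHom _ _ (biproduct.π (fun _ : Fin n => M) j ≫ biproduct.ι (fun _ : Fin n => M) j) := fun j =>
      (dualMap_comp _ _).symm
    rw [Finset.sum_congr rfl fun j _ => h1 j]
    refine (map_sum (dualHom (⨁ fun _ : Fin n => M) (⨁ fun _ : Fin n => M)) _ _).symm.trans ?_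
    rw [biproduct.total]
    exact dualMap_id)
  exact ⟨biproduct.uniqueUpToIso _ h⟩

/-- `(M^n)^∨ ≅ (M^∨)^n`. -/
theorem nonempty_dual_copies (M : X.Modules) (n : ℕ) :
    Nonempty (dual (∐ fun _ : Fin n => M) ≅ ∐ fun _ : Fin n => dual M) := by
  obtain ⟨e⟩ := nonempty_dual_biproduct M n
  exact ⟨isoLeft (biproduct.isoCoproduct (fun _ : Fin n => M)).symm _ ≪≫ e ≪≫ biproduct.isoCoproduct _⟩

/-- `f^*(E^∨) ≅ (M^∨)^n` if `f^*E ≅ M^n`, `f` flat. -/
theorem nonempty_pull_dual (f : X ⟶ Y) [Flat f] [IsLocallyNoetherian Y] {E : Y.Modules} (hE : Coh.IsCoh E)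
    (M : X.Modules) (n : ℕ) (e : (Scheme.Modules.pullback f).obj E ≅ ∐ fun _ : Fin n => M) :
    Nonempty ((Scheme.Modules.pullback f).obj (dual E) ≅ ∐ fun _ : Fin n => dual M) := by
  obtain ⟨e1⟩ := K939.FlatDual.nonempty_dual_of_isCoh (f := f) hE
  obtain ⟨e2⟩ := nonempty_dual_copies M n
  exact ⟨e1 ≪≫ isoLeft e _ ≪≫ e2⟩

end

end K242.DualSum
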