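import Mathlib.CategoryTheory.Preadditive.Biproducts
import Mathlib.CategoryTheory.Linear.Basic
import Mathlib.CategoryTheory.Retract
import Mathlib.LinearAlgebra.Matrix.ToLin
import Mathlib.LinearAlgebra.Dimension.Constructions
import Mathlib.LinearAlgebra.FiniteDimensional.Basic

/-!
# Retracts of sums of copies of an object with scalar endomorphisms

In a `k`-linear category, if all endomorphisms of `M` are scalars then every retract of `M^N` is isomorphic to `M^n`.
-/

set_option autoImplicit false
open CategoryTheory CategoryTheory.Limits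

namespace K242.Retr

universe v u w

variable {k : Type w} [Field k]

/-- Rank factorisation of an idempotent matrix. -/
theorem exists_factor {N : Type*} [Fintype N] [DecidableEq N] (E : Matrix N N k) (hE : E * E = E) :
    ∃ (n : ℕ) (A : Matrix N (Fin n) k) (B : Matrix (Fin n) N k), A * B = E ∧ B * A = 1 := by
  let f : (N → k) →ₗ[k] (N → k) := Matrix.toLin' E
  have hf : ∀ x, f (f x) = f x := fun x => by
    change (Matrix.toLin' E ∘ₗ Matrix.toLin' E) x = Matrix.toLin' E x
    rw [← Matrix.toLin'_mul, hE]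
  let R := LinearMap.range f
  let b := Module.finBasis k R
  let i : (Fin (Module.finrank k R) → k) →ₗ[k] (N → k) := R.subtype ∘ₗ b.equivFun.symm.toLinearMap
  let p : (N → k) →ₗ[k] (Fin (Module.finrank k R) → k) := b.equivFun.toLinearMap ∘ₗ f.rangeRestrict
  have h1 : i ∘ₗ p = f := by
    ext x
    simp [i, p]
  have h2 : p ∘ₗ i = LinearMap.id := by
    refine LinearMap.ext fun x => ?_
    have e : f.rangeRestrict (b.equivFun.symm x : N → k) = b.equivFun.symm x := by
      obtain ⟨y, hy⟩ := (b.equivFun.symm x).2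
      apply Subtype.ext
      change f (b.equivFun.symm x : N → k) = b.equivFun.symm x
      rw [← hy, hf]
    change b.equivFun (f.rangeRestrict (b.equivFun.symm x : N → k)) = x
    rw [e, LinearEquiv.apply_symm_apply]
  refine ⟨_, LinearMap.toMatrix' i, LinearMap.toMatrix' p, ?_, ?_⟩
  · rw [← LinearMap.toMatrix'_comp, h1, LinearMap.toMatrix'_toLin']
  · rw [← LinearMap.toMatrix'_comp, h2, LinearMap.toMatrix'_id]

variable {C : Type u} [Category.{v} C] [Preadditive C] [Linear k C] [HasFiniteBiproducts C]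

/-- The morphism `M^a ⟶ M^b` attached to a matrix of scalars. -/
noncomputable def mor (M : C) {a b : Type} [Fintype a] [Fintype b] (A : Matrix a b k) :
    (⨁ fun _ : a => M) ⟶ (⨁ fun _ : b => M) :=
  biproduct.matrix fun i j => A i j • 𝟙 M

omit [HasFiniteBiproducts C] in
theorem sum_smul_id {ι : Type*} (M : C) (s : Finset ι) (f : ι → k) : (∑ i ∈ s, f i) • 𝟙 M = ∑ i ∈ s, f i • 𝟙 M :=
  Finset.sum_smul

theorem mor_comp (M : C) {a b c : Type} [Fintype a] [Fintype b] [Fintype c] (A : Matrix a b k)
    (B : Matrix b c k) : mor M A ≫ mor M B = mor M (A * B) := by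
  classical
  refine biproduct.hom_ext _ _ fun j => biproduct.hom_ext' _ _ fun i => ?_
  simp only [mor, Category.assoc, biproduct.matrix_π, biproduct.ι_desc]
  rw [← Category.assoc, biproduct.ι_matrix, biproduct.lift_desc, Matrix.mul_apply, Finset.sum_smul]
  refine Finset.sum_congr rfl fun x _ => ?_
  rw [Linear.smul_comp, Category.id_comp, smul_smul]

theorem mor_one (M : C) {a : Type} [Fintype a] [DecidableEq a] : mor (k := k) M (1 : Matrix a a k) = 𝟙 _ := by
  classical
  refine biproduct.hom_ext _ _ fun j => biproduct.hom_ext' _ _ fun i => ?_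
  simp only [mor, biproduct.matrix_π, biproduct.ι_desc, Category.id_comp]
  rw [biproduct.ι_π]
  by_cases h : i = j
  · subst h
    simp
  · simp [h]

/-- Every morphism between sums of copies of `M` is a matrix of scalars. -/
theorem exists_mor {M : C} (hM : ∀ f : M ⟶ M, ∃ c : k, f = c • 𝟙 M) {a b : Type} [Fintype a] [Fintype b]
    (f : (⨁ fun _ : a => M) ⟶ (⨁ fun _ : b => M)) : ∃ A : Matrix a b k, f = mor M A := by
  classical
  choose c hc using fun (i : a) (j : b) => hM (biproduct.ι (fun _ : a => M) i ≫ f ≫ biproduct.π (fun _ : b => M) j)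
  refine ⟨c, biproduct.hom_ext _ _ fun j => biproduct.hom_ext' _ _ fun i => ?_⟩
  simp only [mor, biproduct.matrix_π, biproduct.ι_desc]
  exact hc i j

theorem mor_injective {M : C} (hM : 𝟙 M ≠ 0) {a b : Type} [Fintype a] [Fintype b] {A B : Matrix a b k}
    (h : mor M A = mor M B) : A = B := by
  classical
  ext i j
  have := congrArg (fun t => biproduct.ι (fun _ : a => M) i ≫ t ≫ biproduct.π (fun _ : b => M) j) h
  simp only [mor, biproduct.matrix_π, biproduct.ι_desc] at this
  rw [← sub_eq_zero, ← sub_smul] at this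
  by_contra hne
  exact hM (by
    have h2 := congrArg (fun t => (A i j - B i j)⁻¹ • t) this
    simpa [smul_smul, inv_mul_cancel₀ (sub_ne_zero.2 hne)] using h2)

/-- A retract of `M^N` is isomorphic to `M^n`, if the endomorphisms of `M` are scalars. -/
theorem exists_iso_biproduct {M : C} (hM : ∀ f : M ⟶ M, ∃ c : k, f = c • 𝟙 M) {a : Type} [Fintype a] {G : C}
    (h : Retract G (⨁ fun _ : a => M)) : ∃ n : ℕ, Nonempty (G ≅ ⨁ fun _ : Fin n => M) := by
  classical
  by_cases h0 : 𝟙 M = 0
  · have hz : IsZero M := (IsZero.iff_id_eq_zero M).2 h0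
    have hz' : IsZero (⨁ fun _ : a => M) := by
      rw [IsZero.iff_id_eq_zero]
      refine biproduct.hom_ext _ _ fun j => hz.eq_of_tgt _ _
    have hG : IsZero G := by
      rw [IsZero.iff_id_eq_zero, ← h.retract, hz'.eq_of_tgt h.i 0, zero_comp]
    have h2 : IsZero (⨁ fun _ : Fin 0 => M) := by
      rw [IsZero.iff_id_eq_zero]
      refine biproduct.hom_ext _ _ fun j => hz.eq_of_tgt _ _
    exact ⟨0, ⟨hG.iso h2⟩⟩
  · obtain ⟨E, hE⟩ := exists_mor hM (h.r ≫ h.i)
    have h1 : E * E = E := by
      apply mor_injective h0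
      rw [← mor_comp, ← hE, Category.assoc, h.retract_assoc]
    obtain ⟨n, A, B, h2, h3⟩ := exists_factor E h1
    refine ⟨n, ⟨⟨h.i ≫ mor M A, mor M B ≫ h.r, ?_, ?_⟩⟩⟩
    · have : mor M A ≫ mor M B = h.r ≫ h.i := by rw [mor_comp, h2, hE]
      rw [Category.assoc, reassoc_of% this, h.retract, Category.comp_id, h.retract]
    · rw [Category.assoc, ← Category.assoc h.r, hE, mor_comp, mor_comp, ← h2, Matrix.mul_assoc, h3,
        Matrix.mul_one, h3, mor_one]

/-- A retract of `M^N` is isomorphic to `M^n`, if the endomorphisms of `M` are scalars (coproduct form). -/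
theorem exists_iso {M : C} (hM : ∀ f : M ⟶ M, ∃ c : k, f = c • 𝟙 M) {a : Type} [Fintype a] {G : C}
    (h : Retract G (∐ fun _ : a => M)) : ∃ n : ℕ, Nonempty (G ≅ ∐ fun _ : Fin n => M) := by
  obtain ⟨n, ⟨e⟩⟩ := exists_iso_biproduct hM
    (h.trans (Retract.ofIso (biproduct.isoCoproduct fun _ : a => M).symm))
  exact ⟨n, ⟨e ≪≫ biproduct.isoCoproduct _⟩⟩

end K242.Retr
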