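import Groth.Agent.BunMod.K242.Trans
import Groth.Agent.BunMod.K242.Retr
import Groth.Agent.ASBun.K791.Tens
import Groth.Agent.VBCurve.K703.Scalar
import Groth.Agent.Coherent.K98.RankOpen
import Groth.Agent.Curves.K317.Sums
import Groth.Agent.VBCurve.K703.Det2
import Groth.Agent.Krr.H487.KerRank

/-!
# The transform of the dual of a Verlinde type bundle, structure after pull back

`(J, L)` a symmetric principally polarised abelian variety; `E'` a retract of `[m]_*[m]^*E'` with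
`[m]^* E' ≅ M^v`, `M ⊗ L^(m r) ≅ O`.  Then `[r m]^* T_i(E')` is a sum of copies of `L^(m^3 r)`.
-/

set_option autoImplicit false
universe u

open CategoryTheory CategoryTheory.Limits MonoidalCategory CartesianMonoidalCategory MonObj GrpObj
  AlgebraicGeometry

namespace K242.FMain

open Groth.Agent Groth.Agent.Grpsch Groth.Agent.Grpsch.PicGrp Groth.Agent.Grpsch.Cube K242.Der K242.Cls
open K242.Trans
open K528.MumZero (mumCl)

variable {k : Type u} [Field k] {J : Over (Spec (CommRingCat.of k))} [GrpObj J]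

theorem pow_comp_pow (a b : ℕ) : (𝟙 J ^ a) ≫ (𝟙 J ^ b) = 𝟙 J ^ (a * b) := by
  rw [MonObj.comp_pow, Category.comp_id, pow_mul]

theorem inv_comp_inv_pow [IsCommMonObj J] (a b : ℕ) : ((𝟙 J ^ a)⁻¹) ≫ ((𝟙 J ^ b)⁻¹) = 𝟙 J ^ (a * b) := by
  rw [GrpObj.comp_inv, MonObj.comp_pow, Category.comp_id, inv_pow, _root_.inv_inv, pow_mul]

section cls

variable [IsProper J.hom] [GeometricallyIntegral J.hom] {L : J.left.Modules}

theorem nonempty_pull_inv_pow (hL : PicF.IsInvertible L) (hsym : pl (𝟙 J)⁻¹ (mk L hL) = mk L hL) (a n : ℕ) :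
    Nonempty ((Scheme.Modules.pullback ((𝟙 J ^ a)⁻¹).left).obj (CohB1.tensorPow L n) ≅
      CohB1.tensorPow L (a ^ 2 * n)) := by
  rw [← mk_eq_iff (Fdesc.LocGen.isInvertible_pullback _ (Fdesc.LocGen.isInvertible_tensorPow hL _))
    (Fdesc.LocGen.isInvertible_tensorPow hL _)]
  have h1 : pl (𝟙 J ^ a)⁻¹ (mk L hL) = mk L hL ^ (a ^ 2) := by
    have h2 : ((𝟙 J ^ a)⁻¹ : J ⟶ J) = (𝟙 J ^ a) ≫ (𝟙 J)⁻¹ := by rw [GrpObj.comp_inv, Category.comp_id]
    rw [h2, pl_comp, hsym]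
    have key := pl_pow_of_symm (mk L hL) (𝟙 J) hsym a
    have h1 : pl (𝟙 J) (mk L hL) = mk L hL := pull_id _
    rwa [h1] at key
  have h3 := mk_tensorPow hL (a ^ 2 * n)
  have h4 : mk _ (Fdesc.LocGen.isInvertible_pullback ((𝟙 J ^ a)⁻¹).left (Fdesc.LocGen.isInvertible_tensorPow hL n)) =
      pl (𝟙 J ^ a)⁻¹ (mk L hL ^ n) := by
    rw [← mk_tensorPow hL n]; rfl
  rw [h4, map_pow, h1, ← pow_mul]
  exact h3.symm

end cls

/-- `O^h ⊗ M ≅ M^h`. -/
noncomputable def freeTens {X : Scheme.{u}} (h : ℕ) (M : X.Modules) :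
    CohB1.tensorMod (FlatMod.freeMod X h) M ≅ ∐ fun _ : Fin h => M :=
  ASBun.K791.Tens.coprodTens _ _ ≪≫ Sigma.mapIso fun _ => ASBun.K791.Tens.tensLUnit M

variable [IsProper J.hom] [Smooth J.hom] [GeometricallyConnected J.hom] [IsAlgClosed k] [IsCommMonObj J]
  {φ : AgPol.DualMap J J} {P : (pullback J.hom J.hom).Modules}
  [HasInjectiveResolutions (pullback J.hom J.hom).Modules] {L : J.left.Modules}

/-- `[r m]^* [m]^* T_i(M) ≅ (L^(m^3 r))^h` for `M` inverse to `L^(m r)`. -/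
theorem nonempty_pull_T (hsd : Jac.IsSelfDual Scheme.fppfPrecoverage J φ L) (hL : PicF.IsInvertible L)
    (hsym : pl (𝟙 J)⁻¹ (mk L hL) = mk L hL) (hP : PicF.IsInvertible P)
    (hPP : AbDual.IsPoincareCl J J φ (PicF.cl P)) {m r : ℕ} (hm : 1 ≤ m) (hr : 1 ≤ r) {M : J.left.Modules}
    (hM : PicF.IsInvertible M)
    (hM' : Nonempty (CohB1.tensorMod M (CohB1.tensorPow L (m * r)) ≅ Coh.structureModule J.left)) (i : ℕ) :
    Nonempty ((Scheme.Modules.pullback (𝟙 J ^ (r * m)).left).obj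
        ((Scheme.Modules.pullback (𝟙 J ^ m).left).obj ((TJ P i).obj M)) ≅
      ∐ fun _ : Fin (@Module.finrank k (Coh.HH J.left M i) _ _ (@Coh.moduleOver k _ J.left ⟨J.hom⟩ M i)) =>
        CohB1.tensorPow L (m ^ 3 * r)) := by
  have := K732.AV.geomInt J
  have hn : 1 ≤ m * r := Nat.mul_pos hm hr
  let ν : J ⟶ J := (𝟙 J ^ (m * r))⁻¹
  let σ : J ⟶ J := (𝟙 J ^ m)⁻¹
  have hν0 : ν = (𝟙 J ^ (m * r)) ≫ (𝟙 J)⁻¹ := by rw [GrpObj.comp_inv, Category.comp_id]
  have i1 := MulFin.isFinite_pow J (m * r) hn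
  have i2 := MulFin.flat_pow J (m * r) hn
  have i3 := MulFin.isIso_inv_left J
  have i4 : IsFinite ν.left := by
    rw [hν0, Over.comp_left]; infer_instance
  have i5 : Flat ν.left := by
    rw [hν0, Over.comp_left]; infer_instance
  have hc : mk M hM = (mk L hL ^ (m * r))⁻¹ := by
    obtain ⟨h1, h2⟩ := K519.DualBase.mk_inv hM hM'
    rw [← mk_tensorPow hL (m * r)]
    rw [eq_inv_iff_mul_eq_one, ← inv_eq_iff_mul_eq_one]
    exact h2.symm
  have hν : K732.Dual.cm φ (mumCl J (mk M hM)) = ν := by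
    rw [hc, lam_inv_pow hsd hL]
  obtain ⟨e⟩ := nonempty_T_inv_of hsd.1 hP hPP hM hM' ν hν i
  have hw : (𝟙 J ^ (r * m)).left ≫ (𝟙 J ^ m).left = σ.left ≫ ν.left := by
    rw [← Over.comp_left, ← Over.comp_left, pow_comp_pow, inv_comp_inv_pow]
    congr 2
    ring
  obtain ⟨e2⟩ := nonempty_pull_inv_pow hL hsym m (m * r)
  have hmr : m ^ 2 * (m * r) = m ^ 3 * r := by ring
  rw [hmr] at e2
  exact ⟨((Scheme.Modules.pullbackComp _ _).app _) ≪≫ ((Scheme.Modules.pullbackCongr hw).app _) ≪≫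
    ((Scheme.Modules.pullbackComp _ _).app _).symm ≪≫ (Scheme.Modules.pullback σ.left).mapIso e ≪≫
    ASBun.K791.Tens.pullTens σ.left _ _ ≪≫ Ega2.Tens.mapTIso (PerfB.FlatPull.pullbackFreeMod σ.left _) e2 ≪≫
    freeTens _ _⟩

/-- `[r m]^* T_i(E')` is a retract of a sum of copies of `L^(m^3 r)`. -/
theorem nonempty_retract (hsd : Jac.IsSelfDual Scheme.fppfPrecoverage J φ L) (hL : PicF.IsInvertible L)
    (hsym : pl (𝟙 J)⁻¹ (mk L hL) = mk L hL) (hP : PicF.IsInvertible P)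
    (hPP : AbDual.IsPoincareCl J J φ (PicF.cl P)) {m r v : ℕ} (hm : 1 ≤ m) (hr : 1 ≤ r) {M : J.left.Modules}
    (hM : PicF.IsInvertible M)
    (hM' : Nonempty (CohB1.tensorMod M (CohB1.tensorPow L (m * r)) ≅ Coh.structureModule J.left))
    {E' : J.left.Modules} (hE' : FlatMod.IsFinLocFree E') (ret : Retract E' ((Scheme.Modules.pushforward (𝟙 J ^ m).left).obj
      ((Scheme.Modules.pullback (𝟙 J ^ m).left).obj E')))
    (eE : (Scheme.Modules.pullback (𝟙 J ^ m).left).obj E' ≅ ∐ fun _ : Fin v => M) (i : ℕ) :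
    Nonempty (Retract ((Scheme.Modules.pullback (𝟙 J ^ (r * m)).left).obj ((TJ P i).obj E'))
      (∐ fun _ : Fin v × Fin (@Module.finrank k (Coh.HH J.left M i) _ _ (@Coh.moduleOver k _ J.left ⟨J.hom⟩ M i)) =>
        CohB1.tensorPow L (m ^ 3 * r))) := by
  have hq : Coh.IsQCoh ((Scheme.Modules.pullback (𝟙 J ^ m).left).obj E') :=
    (PerfA.CohSerre.isCoh_of_isFinLocFree (PerfB.FlatPull.isFinLocFree_pullback (𝟙 J ^ m).left hE')).1
  obtain ⟨e1⟩ := nonempty_T_push hsd.1 hP hPP hm hq i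
  obtain ⟨e2⟩ := nonempty_pull_T hsd hL hsym hP hPP hm hr hM hM' i
  let F : J.left.Modules ⥤ J.left.Modules := TJ P i ⋙ Scheme.Modules.pullback (𝟙 J ^ m).left ⋙
    Scheme.Modules.pullback (𝟙 J ^ (r * m)).left
  let e3 : F.obj ((Scheme.Modules.pullback (𝟙 J ^ m).left).obj E') ≅
      ∐ fun _ : Fin v × Fin (@Module.finrank k (Coh.HH J.left M i) _ _ (@Coh.moduleOver k _ J.left ⟨J.hom⟩ M i)) =>
        CohB1.tensorPow L (m ^ 3 * r) :=
    F.mapIso eE ≪≫ PreservesCoproduct.iso F _ ≪≫ (Sigma.mapIso fun _ => e2) ≪≫ ASBun.K791.Tens.sigmaPow _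
  exact ⟨(ret.map (TJ P i ⋙ Scheme.Modules.pullback (𝟙 J ^ (r * m)).left)).trans
    (Retract.ofIso ((Scheme.Modules.pullback (𝟙 J ^ (r * m)).left).mapIso e1 ≪≫ e3))⟩

/-- `[r m]^* T_i(E')` is a sum of copies of `L^(m^3 r)`. -/
theorem exists_iso (hsd : Jac.IsSelfDual Scheme.fppfPrecoverage J φ L) (hL : PicF.IsInvertible L)
    (hsym : pl (𝟙 J)⁻¹ (mk L hL) = mk L hL) (hP : PicF.IsInvertible P)
    (hPP : AbDual.IsPoincareCl J J φ (PicF.cl P)) {m r v : ℕ} (hm : 1 ≤ m) (hr : 1 ≤ r) {M : J.left.Modules}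
    (hM : PicF.IsInvertible M)
    (hM' : Nonempty (CohB1.tensorMod M (CohB1.tensorPow L (m * r)) ≅ Coh.structureModule J.left))
    {E' : J.left.Modules} (hE' : FlatMod.IsFinLocFree E') (ret : Retract E' ((Scheme.Modules.pushforward (𝟙 J ^ m).left).obj
      ((Scheme.Modules.pullback (𝟙 J ^ m).left).obj E')))
    (eE : (Scheme.Modules.pullback (𝟙 J ^ m).left).obj E' ≅ ∐ fun _ : Fin v => M) (i : ℕ) :
    ∃ n : ℕ, Nonempty ((Scheme.Modules.pullback (𝟙 J ^ (r * m)).left).obj ((TJ P i).obj E') ≅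
      ∐ fun _ : Fin n => CohB1.tensorPow L (m ^ 3 * r)) := by
  have := K732.AV.geomInt J
  let _ : J.left.Over (Spec (CommRingCat.of k)) := ⟨J.hom⟩
  have i9 : IsProper (J.left ↘ Spec (CommRingCat.of k)) := inferInstanceAs (IsProper J.hom)
  have hint : IsIntegral J.left := GeometricallyIntegral.isIntegral_of_subsingleton J.hom
  obtain ⟨ρ⟩ := nonempty_retract hsd hL hsym hP hPP hm hr hM hM' hE' ret eE i
  exact Retr.exists_iso (k := k) (fun f => K703.Scalar.end_scalar (Fdesc.LocGen.isInvertible_tensorPow hL _) f) ρ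

/-- A quasi-coherent module whose pull back under `[a]` is a sum of `n` copies of an invertible module is finite
locally free of rank `n`. -/
theorem rank_of_iso {F L' : J.left.Modules} (hF : Coh.IsQCoh F) {a n : ℕ} (ha : 1 ≤ a) (hL : PicF.IsInvertible L')
    (e : (Scheme.Modules.pullback (𝟙 J ^ a).left).obj F ≅ ∐ fun _ : Fin n => L') :
    FlatMod.IsFinLocFreeOfRank n F := by
  have := K732.AV.geomInt J
  have := MulFin.isFinite_pow J a ha
  have := MulFin.flat_pow J a ha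
  have := MulFin.surjective_pow J a ha
  refine Groth.Agent.Coherent.K98.RankOpen.isFinLocFreeOfRank_of_pullback (𝟙 J ^ a).left F hF n ?_
  exact Krr.H487.KerRank.isFinLocFreeOfRank_of_iso e.symm (K317.Sums.rank_coproduct _ fun _ => K703.Det2.inv_iff.2 hL)

/-- `T_i(E')` is zero when `H^i(J, M) = 0`. -/
theorem isZero_T (hsd : Jac.IsSelfDual Scheme.fppfPrecoverage J φ L) (hL : PicF.IsInvertible L)
    (hsym : pl (𝟙 J)⁻¹ (mk L hL) = mk L hL) (hP : PicF.IsInvertible P)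
    (hPP : AbDual.IsPoincareCl J J φ (PicF.cl P)) {m r v : ℕ} (hm : 1 ≤ m) (hr : 1 ≤ r) {M : J.left.Modules}
    (hM : PicF.IsInvertible M)
    (hM' : Nonempty (CohB1.tensorMod M (CohB1.tensorPow L (m * r)) ≅ Coh.structureModule J.left))
    {E' : J.left.Modules} (hE' : FlatMod.IsFinLocFree E') (ret : Retract E' ((Scheme.Modules.pushforward (𝟙 J ^ m).left).obj
      ((Scheme.Modules.pullback (𝟙 J ^ m).left).obj E')))
    (eE : (Scheme.Modules.pullback (𝟙 J ^ m).left).obj E' ≅ ∐ fun _ : Fin v => M) (i : ℕ)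
    (h : Subsingleton (Coh.HH J.left M i)) : IsZero ((TJ P i).obj E') := by
  have := K732.AV.geomInt J
  obtain ⟨ρ⟩ := nonempty_retract hsd hL hsym hP hPP hm hr hM hM' hE' ret eE i
  have ha : 1 ≤ r * m := Nat.mul_pos hr hm
  have := MulFin.flat_pow J (r * m) ha
  have := MulFin.surjective_pow J (r * m) ha
  refine PerfB.FlatPull.isZero_of_isZero_pullback (f := (𝟙 J ^ (r * m)).left) _ ?_
  have h0 : @Module.finrank k (Coh.HH J.left M i) _ _ (@Coh.moduleOver k _ J.left ⟨J.hom⟩ M i) = 0 :=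
    @Module.finrank_zero_of_subsingleton _ _ _ _ (@Coh.moduleOver k _ J.left ⟨J.hom⟩ M i) _ h
  have h1 : IsEmpty (Fin v × Fin (@Module.finrank k (Coh.HH J.left M i) _ _
      (@Coh.moduleOver k _ J.left ⟨J.hom⟩ M i))) := by
    rw [h0]; infer_instance
  have h2 : IsZero (∐ fun _ : Fin v × Fin (@Module.finrank k (Coh.HH J.left M i) _ _
      (@Coh.moduleOver k _ J.left ⟨J.hom⟩ M i)) => CohB1.tensorPow L (m ^ 3 * r)) := by
    rw [IsZero.iff_id_eq_zero]
    exact Limits.Sigma.hom_ext _ _ fun b => (h1.false b).elim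
  rw [IsZero.iff_id_eq_zero, ← ρ.retract, h2.eq_of_tgt ρ.i 0, zero_comp]

end K242.FMain
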