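import Groth.Agent.BunMod.K242.Trans
import Groth.Agent.S14147
import Groth.Agent.AbVar.K232.FMConc
import Groth.Agent.ASBun.K791.Tens
import Groth.Agent.Surf.K461.SerreLF
import Groth.Agent.Dual3.K477.NormalDual
import Groth.Agent.AbVar.K504.Hodge
import Groth.Agent.Krr.H487.KerRank
import Groth.Agent.Curves.K317.Sums
import Groth.Agent.VBCurve.K703.Det2
import Groth.Agent.CurvesC.DegIso
import Groth.Agent.Krr.H463.DualLam
import Groth.Agent.Krr.H463.SpecField

/-!
# The rank of the transform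

* `rank_eq` : if `T_i(E') = 0` for `i ≠ g` and `T_g(E')` is finite locally free of rank `n`, then `n = dim H^g(J, E')`;
* `finrank_dual` : Serre duality `dim H^p(J, F) = dim H^m(J, F^∨)`, `m + p = g`.
-/

set_option autoImplicit false
universe u

open CategoryTheory CategoryTheory.Limits MonoidalCategory CartesianMonoidalCategory MonObj GrpObj
  AlgebraicGeometry
attribute [local instance] HasDerivedCategory.standard

namespace K242.RankF

open Groth.Agent Groth.Agent.Grpsch Groth.Agent.Grpsch.PicGrp Groth.Agent.Grpsch.Cube K242.Der K242.Cls K242.Trans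
open K528.MumZero (mumCl)

variable {k : Type u} [Field k] {J : Over (Spec (CommRingCat.of k))} [GrpObj J] [IsProper J.hom]
  [Smooth J.hom] [GeometricallyConnected J.hom]

/-- **Serre duality** on an abelian variety. -/
theorem finrank_dual {g : ℕ} (hg : topologicalKrullDim J.left = g) {F : J.left.Modules}
    (hF : FlatMod.IsFinLocFree F) (m p : ℕ) (h : m + p = g) :
    @Module.finrank k (Coh.HH J.left F p) _ _ (@Coh.moduleOver k _ J.left ⟨J.hom⟩ F p) =
      @Module.finrank k (Coh.HH J.left (RefHull.dual F) m) _ _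
        (@Coh.moduleOver k _ J.left ⟨J.hom⟩ (RefHull.dual F) m) := by
  have := K732.AV.geomInt J
  have hint : IsIntegral J.left := GeometricallyIntegral.isIntegral_of_subsingleton J.hom
  let _ : J.left.Over (Spec (CommRingCat.of k)) := ⟨J.hom⟩
  have i9 : IsProper (J.left ↘ Spec (CommRingCat.of k)) := inferInstanceAs (IsProper J.hom)
  obtain ⟨n, hn⟩ := K504.Hodge.exists_relDim k J.left J.hom
  have h1 : topologicalKrullDim J.left = n := K504.Hodge.topologicalKrullDim_eq J.hom n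
  have h2 : n = g := by
    rw [hg] at h1
    exact_mod_cast h1.symm
  subst h2
  have i10 : SmoothOfRelativeDimension n (J.left ↘ Spec (CommRingCat.of k)) := hn
  have hΩ : FlatMod.IsFinLocFree (Omega.sheaf (J.left ↘ Spec (CommRingCat.of k))) := by
    obtain ⟨e⟩ := K504.Hodge.exists_pullback J n
    exact Krr.H463.DualLam.isFinLocFree_of_rank (Krr.H487.KerRank.isFinLocFreeOfRank_of_iso
      (e ≪≫ PerfB.FlatPull.pullbackFreeMod J.hom n).symm (K317.Sums.rank_coproduct _ fun _ =>
        K703.Det2.inv_iff.2 Fdesc.LocGen.isInvertible_structureModule))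
  obtain ⟨W, hWf, hW⟩ := Krr.H495.ExtExist.exists_isExtPow n _ hΩ
  obtain ⟨eW⟩ := K504.Hodge.main J hg hW
  rw [Nat.choose_self] at eW
  have eW' : W ≅ Coh.structureModule J.left := eW ≪≫ Limits.coproductUniqueIso _
  have h3 := K461.SerreLF.finrank_eq k n hW hF m p h
  rw [h3]
  exact CurvesC.DegIso.finrank_congr k ((DCoh.sheafHom F).mapIso eW' ≪≫ K477.NormalDual.dualIso F) m

/-- The restriction of the Poincaré module to `J × {0}` is trivial. -/
theorem nonempty_poinc_unit {φ : AgPol.DualMap J J} {L : J.left.Modules} (hsd : Jac.IsSelfDual Scheme.fppfPrecoverage J φ L)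
    (hL : PicF.IsInvertible L) {P : (pullback J.hom J.hom).Modules} (hP : PicF.IsInvertible P)
    (hPP : AbDual.IsPoincareCl J J φ (PicF.cl P)) :
    Nonempty ((Scheme.Modules.pullback (CartesianMonoidalCategory.lift (𝟙 J) (toUnit J ≫ η[J])).left).obj P ≅
      Coh.structureModule J.left) := by
  rw [← mk_eq_one_iff (Fdesc.LocGen.isInvertible_pullback _ hP)]
  have h1 : mk _ (Fdesc.LocGen.isInvertible_pullback (lift (𝟙 J) (toUnit J ≫ η[J])).left hP) =
      pull (lift (𝟙 J) (toUnit J ≫ η[J])).left (mumCl J (mk L hL)) := by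
    rw [← mk_poinc hsd hL hP hPP]; rfl
  rw [h1]
  refine (K528.MumZero.pull_lift_mumCl J _ _ _).trans ?_
  have h2 : toUnit J ≫ η[J] = (1 : J ⟶ J) := by
    rw [MonObj.one_eq_one, MonObj.comp_one]
  have h3 : pull ((1 : J ⟶ J)).left (mk L hL) = 1 := Groth.Agent.Grpsch.Cube.pl_one _
  rw [h2, _root_.mul_one, h3, inv_one, _root_.mul_one, mul_inv_cancel]

/-- The comparison of `H^g(J, E')` with the fibre at `0` of the transform. -/
theorem nonempty_fibre {φ : AgPol.DualMap J J} {L : J.left.Modules} (hsd : Jac.IsSelfDual Scheme.fppfPrecoverage J φ L)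
    (hL : PicF.IsInvertible L) {P : (pullback J.hom J.hom).Modules} (hP : PicF.IsInvertible P)
    (hPP : AbDual.IsPoincareCl J J φ (PicF.cl P)) [HasInjectiveResolutions (pullback J.hom J.hom).Modules]
    [HasInjectiveResolutions J.left.Modules]
    {E' : J.left.Modules} (hE' : FlatMod.IsFinLocFree E') (g : ℕ) (h0 : ∀ i : ℕ, i ≠ g → IsZero ((TJ P i).obj E'))
    (hF : FlatMod.IsFinLocFree ((TJ P g).obj E')) :
    Nonempty ((Coh.Rpush J.hom g).obj E' ≅ (Scheme.Modules.pullback η[J].left).obj ((TJ P g).obj E')) := by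
  have i1 : DCoh.HasLpull (pullback.fst J.hom J.hom) := Dcoh.DerPull.hasLpull _
  have i2 : DCoh.HasRpush (pullback.snd J.hom J.hom) := Dcoh.DerSch.hasRpush _
  have i3 : DCoh.HasLTensorMod P := PerfB.TensInv.hasLTensorMod_of_isInvertible hP
  have i4 : DCoh.HasRpush J.hom := Dcoh.DerSch.hasRpush _
  have i5 : DCoh.HasLpull η[J].left := Dcoh.DerPull.hasLpull _
  let Mx := (Scheme.Modules.pullback (CartesianMonoidalCategory.lift (𝟙 J) (toUnit J ≫ η[J])).left).obj P
  have hMx : PicF.IsInvertible Mx := Fdesc.LocGen.isInvertible_pullback _ hP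
  have i6 : DCoh.HasLTensorMod Mx := PerfB.TensInv.hasLTensorMod_of_isInvertible hMx
  obtain ⟨e⟩ := S14147.result k J J φ hsd.1 P hP hPP η[J]
  have hq : DCoh.IsQCohD (DCoh.inD J.left E') :=
    PerfB.StructFlat.isQCohD_inD (PerfA.CohSerre.isCoh_of_isFinLocFree hE').1
  let e1 := e.app ⟨DCoh.inD J.left E', hq⟩
  obtain ⟨eM⟩ := nonempty_poinc_unit hsd hL hP hPP
  let K : DCoh.D J.left := (DCoh.Lpull (pullback.fst J.hom J.hom) ⋙ DCoh.LTensorMod P ⋙
    DCoh.Rpush (pullback.snd J.hom J.hom)).obj (DCoh.inD J.left E')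
  have hK : ∀ i : ℤ, i ≠ g → IsZero (DCoh.HD K i) := fun i hi => by
    rcases lt_or_ge i 0 with h | h
    · exact (PerfC.RpushSingle.isZero_of_neg (pullback.snd J.hom J.hom) _ i h).of_iso
        ((DerivedCategory.homologyFunctor _ i).mapIso ((DCoh.Rpush (pullback.snd J.hom J.hom)).mapIso
          ((DCoh.LTensorMod P).mapIso (lpullInD (pullback.fst J.hom J.hom) E') ≪≫ ltInD hP _)))
    · obtain ⟨n, rfl⟩ := Int.eq_ofNat_of_zero_le h
      exact (h0 n (by omega)).of_iso (TIso _ _ _ hP n E')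
  have h1 : K.IsGE g := by
    rw [DerivedCategory.isGE_iff]
    exact fun i hi => hK i (by omega)
  have h2 : K.IsLE g := by
    rw [DerivedCategory.isLE_iff]
    exact fun i hi => hK i (by omega)
  obtain ⟨N, ⟨eN⟩⟩ := DerivedCategory.exists_iso_singleFunctor_obj_of_isGE_of_isLE K g
  let eN1 : (TJ P g).obj E' ≅ N := (TIso _ _ _ hP g E').symm ≪≫ (DerivedCategory.homologyFunctor _ (g : ℤ)).mapIso eN ≪≫
    (DerivedCategory.singleFunctorCompHomologyFunctorIso _ (g : ℤ)).app N
  have hN : FlatMod.IsFinLocFree N := PerfA.PerfLocal.isFinLocFree_of_iso eN1 hF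
  let a1 : (Coh.Rpush J.hom g).obj E' ≅ DCoh.HD ((DCoh.Rpush J.hom).obj ((DCoh.LTensorMod Mx).obj (DCoh.inD J.left E'))) g :=
    (Coh.Rpush J.hom g).mapIso ((Ega2.Tens.runit E').symm ≪≫ Ega2.Tens.mapTIso (Iso.refl _) eM.symm) ≪≫
      (PerfC.RpushSingle.iso J.hom g _).symm ≪≫
      (DerivedCategory.homologyFunctor _ (g : ℤ)).mapIso ((DCoh.Rpush J.hom).mapIso (ltInD hMx E').symm)
  let a2 : DCoh.HD ((DCoh.Lpull η[J].left).obj K) g ≅ (Scheme.Modules.pullback η[J].left).obj N :=
    (DerivedCategory.homologyFunctor _ (g : ℤ)).mapIso ((DCoh.Lpull η[J].left).mapIso eN ≪≫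
      PerfB.FibreConc.lpullSg η[J].left (g : ℤ) hN) ≪≫
      (DerivedCategory.singleFunctorCompHomologyFunctorIso _ (g : ℤ)).app _
  exact ⟨a1 ≪≫ (DerivedCategory.homologyFunctor _ (g : ℤ)).mapIso e1 ≪≫ a2 ≪≫
    (Scheme.Modules.pullback η[J].left).mapIso eN1.symm⟩

/-- Free modules on a non-empty scheme of different ranks are not isomorphic. -/
theorem eq_of_free {a b : ℕ} (e : FlatMod.freeMod (Spec (CommRingCat.of k)) a ≅
    FlatMod.freeMod (Spec (CommRingCat.of k)) b) : a = b := by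
  have h1 := Krr.H463.SpecField.euler_of_iso_free k a ⟨Iso.refl _⟩
  have h2 := Krr.H463.SpecField.euler_of_iso_free k b ⟨e⟩
  rw [h1] at h2
  exact_mod_cast h2

/-- **The rank of the transform** is `dim H^g(J, E')`. -/
theorem rank_eq {φ : AgPol.DualMap J J} {L : J.left.Modules} (hsd : Jac.IsSelfDual Scheme.fppfPrecoverage J φ L)
    (hL : PicF.IsInvertible L) {P : (pullback J.hom J.hom).Modules} (hP : PicF.IsInvertible P)
    (hPP : AbDual.IsPoincareCl J J φ (PicF.cl P)) [HasInjectiveResolutions (pullback J.hom J.hom).Modules]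
    {E' : J.left.Modules} (hE' : FlatMod.IsFinLocFree E') (g : ℕ) (h0 : ∀ i : ℕ, i ≠ g → IsZero ((TJ P i).obj E'))
    {n : ℕ} (hF : FlatMod.IsFinLocFreeOfRank n ((TJ P g).obj E')) :
    n = @Module.finrank k (Coh.HH J.left E' g) _ _ (@Coh.moduleOver k _ J.left ⟨J.hom⟩ E' g) := by
  have i8 := PerfC.RpushTrunc.enoughInjectives J.left
  obtain ⟨e⟩ := nonempty_fibre hsd hL hP hPP hE' g h0 (Krr.H463.DualLam.isFinLocFree_of_rank hF)
  let _ : J.left.Over (Spec (CommRingCat.of k)) := ⟨J.hom⟩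
  have i9 : IsProper (J.left ↘ Spec (CommRingCat.of k)) := inferInstanceAs (IsProper J.hom)
  have i10 : FiniteDimensional k (Coh.HH J.left E' g) :=
    S0002.result k J.left E' (PerfA.CohSerre.isCoh_of_isFinLocFree hE') g
  obtain ⟨e1⟩ := SpecK.nonempty_rpush_iso_free k J.left (PerfA.CohSerre.isCoh_of_isFinLocFree hE').1 g
  obtain ⟨e2⟩ := K504.Hodge.nonempty_iso_freeMod (K504.Hodge.isFinLocFreeOfRank_pullback η[J].left hF)
  exact eq_of_free (e2.symm ≪≫ e.symm ≪≫ e1)

end K242.RankF
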