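import Groth.Agent.BunMod.K596.Iface
import Groth.Agent.BunMod.K242.FMain
import Groth.Agent.BunMod.K242.RankF
import Groth.Agent.BunMod.K242.DualSum
import Groth.Agent.BunMod.K231.Cov
import Groth.Agent.AbVar.K511.AmpleVan

/-!
# Node F5a: the Fourier-Mukai transform of the dual of a Verlinde type bundle

`(J, L)` a symmetric principally polarised abelian variety over `k` algebraically closed of characteristic zero, with
the self duality `φ`, `P` the Poincaré module, `[m]^* E ≅ (L^(m r))^v`.  Put `F = R^g p_{2*}(p_1^* E^∨ ⊗ P)`.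

* `fm_of_verD` : `F` is finite locally free of rank `h^0(J, E)` and `[r m]^* F ≅ (L^(m^3 r))^n`;
* `fm_data` : moreover `R^i p_{2*}(p_1^* E^∨ ⊗ P) = 0` for `i ≠ g`.
-/

set_option autoImplicit false
universe u

open CategoryTheory CategoryTheory.Limits MonoidalCategory CartesianMonoidalCategory MonObj GrpObj
  AlgebraicGeometry

namespace K242.FMFinal

open Groth.Agent Groth.Agent.Grpsch Groth.Agent.Grpsch.PicGrp Groth.Agent.Grpsch.Cube K242.Der K242.Cls K242.Trans
open Groth.Agent.BunMod.K596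

variable {k : Type u} [Field k] {J : Over (Spec (CommRingCat.of k))} [GrpObj J]

/-- The transform `R^g p_{2*} (p_1^* E^∨ ⊗ P)`. -/
noncomputable def FM [HasInjectiveResolutions (pullback J.hom J.hom).Modules] (g : ℕ) (P : (pullback J.hom J.hom).Modules)
    (E : J.left.Modules) : J.left.Modules :=
  (Coh.Rpush (pullback.snd J.hom J.hom) g).obj
    (CohB1.tensorMod ((Scheme.Modules.pullback (pullback.fst J.hom J.hom)).obj (RefHull.dual E)) P)

theorem symm_of_sym {L : J.left.Modules} (hL : PicF.IsInvertible L) (hs : Sym J L) :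
    pl (𝟙 J)⁻¹ (mk L hL) = mk L hL := by
  obtain ⟨e⟩ := hs
  rw [MulFin.inv_id_eq]
  exact mk_congr e

section van

variable [IsProper J.hom] [Smooth J.hom] [GeometricallyConnected J.hom] {L : J.left.Modules}

/-- `H^i(J, B^∨) = 0` for `B` ample and `i ≠ g`. -/
theorem subsingleton_dual {g : ℕ} (hg : topologicalKrullDim J.left = g) {B : J.left.Modules} (hB : CohB1.IsAmple B)
    (i : ℕ) (hi : i ≠ g) : Subsingleton (Coh.HH J.left (RefHull.dual B) i) := by
  have := K732.AV.geomInt J
  let _ : J.left.Over (Spec (CommRingCat.of k)) := ⟨J.hom⟩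
  have i9 : IsProper (J.left ↘ Spec (CommRingCat.of k)) := inferInstanceAs (IsProper J.hom)
  have hBl := K232.FMInv.isFinLocFree_of_isInvertible hB.1
  have hco : Coh.IsCoh (RefHull.dual B) := PerfA.CohSerre.isCoh_of_isFinLocFree
    (K232.FMInv.isFinLocFree_of_isInvertible (K476.HomSh6.isInvertible_dual hB.1))
  rcases lt_or_gt_of_ne hi with h | h
  · have h1 := RankF.finrank_dual hg hBl i (g - i) (by omega)
    have h2 : Subsingleton (Coh.HH J.left B (g - i)) := K511.AmpleVan.vanish J B hB _ (by omega)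
    have h3 : Module.finrank k (Coh.HH J.left B (g - i)) = 0 := Module.finrank_zero_of_subsingleton
    have h4 : Module.finrank k (Coh.HH J.left (RefHull.dual B) i) = 0 := h1.symm.trans h3
    have i10 : FiniteDimensional k (Coh.HH J.left (RefHull.dual B) i) := S0002.result k J.left _ hco i
    exact Module.finrank_zero_iff.1 h4
  · have : IsNoetherian J.left := VarietyA.TwistExist.isNoetherian k J.left
    exact Krr.H463.SpecField.subsingleton_HH_of_dim J.left g hg.le _ i h

end van

variable [IsAlgClosed k] [CharZero k] {L : J.left.Modules} {g : ℕ}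

/-- **The transform of the dual**, complete data. -/
theorem fm_data (hJ : PPAV g J L) (hs : Sym J L) [IsCommMonObj J]
    (φJ : AgPol.DualMap J J) (hsd : Jac.IsSelfDual Scheme.fppfPrecoverage J φJ L)
    (P : (pullback J.hom J.hom).Modules) (hP : PicF.IsInvertible P) (hPP : AbDual.IsPoincareCl J J φJ (PicF.cl P))
    [HasInjectiveResolutions (pullback J.hom J.hom).Modules]
    {r m v : ℕ} (hr : 1 ≤ r) (hm : 1 ≤ m) {E : J.left.Modules} (hE : VerD J L m r v E) :
    (∀ i : ℕ, i ≠ g → IsZero ((TJ P i).obj (RefHull.dual E))) ∧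
    ∃ n : ℕ, n = @Module.finrank k (Coh.HH J.left E 0) _ _ (@Coh.moduleOver k _ J.left ⟨J.hom⟩ E 0) ∧
      FlatMod.IsFinLocFreeOfRank n (FM g P E) ∧
      Nonempty ((Scheme.Modules.pullback ((𝟙 J) ^ (r * m) : J ⟶ J).left).obj (FM g P E) ≅
        ∐ fun _ : Fin n => CohB1.tensorPow L (m ^ 3 * r)) := by
  have i1 := hJ.proper
  have i2 := hJ.smooth
  have i3 := hJ.gconn
  have i4 := hJ.gint
  have hL := hJ.inv
  have hsym := symm_of_sym hL hs
  have hint : IsIntegral J.left := GeometricallyIntegral.isIntegral_of_subsingleton J.hom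
  have i5 := MulFin.isFinite_pow J m hm
  have i6 := MulFin.flat_pow J m hm
  have i7 := MulFin.surjective_pow J m hm
  let _ : J.left.Over (Spec (CommRingCat.of k)) := ⟨J.hom⟩
  have i8 : IsProper (J.left ↘ Spec (CommRingCat.of k)) := inferInstanceAs (IsProper J.hom)
  have i9 : IsNoetherian J.left := VarietyA.TwistExist.isNoetherian k J.left
  have i11 := MulFin.isSeparated_left J
  have hmr : 0 < m * r := Nat.mul_pos hm hr
  set B := CohB1.tensorPow L (m * r) with hBdef
  have hB : CohB1.IsAmple B := (Groth.Agent.S2327.result J.left L hL _ hmr).mp hJ.ample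
  have hBi : PicF.IsInvertible B := hB.1
  have hM : PicF.IsInvertible (RefHull.dual B) := K476.HomSh6.isInvertible_dual hBi
  have hM' : Nonempty (CohB1.tensorMod (RefHull.dual B) (CohB1.tensorPow L (m * r)) ≅ Coh.structureModule J.left) :=
    K476.HomSh6.nonempty_dual_tensor hBi
  obtain ⟨eE⟩ := hE.iso
  have hEr : FlatMod.IsFinLocFreeOfRank v E :=
    FMain.rank_of_iso (PerfA.CohSerre.isCoh_of_isFinLocFree hE.locFree).1 hm hBi eE
  have hE' : FlatMod.IsFinLocFree (RefHull.dual E) :=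
    Krr.H463.DualLam.isFinLocFree_of_rank (K879.DualCmp.isFinLocFreeOfRank_dual hEr)
  obtain ⟨eE'⟩ := DualSum.nonempty_pull_dual ((𝟙 J) ^ m : J ⟶ J).left
    (PerfA.CohSerre.isCoh_of_isFinLocFree hE.locFree) B v eE
  have i10 : LocallyOfFinitePresentation ((𝟙 J) ^ m : J ⟶ J).left := by
    have h1 : ((m : ℤ) : k) ≠ 0 := by
      rw [Int.cast_natCast]
      exact Nat.cast_ne_zero.2 (by omega)
    have h2 := AbBC.etale_zpow J h1
    rw [zpow_natCast] at h2
    infer_instance
  obtain ⟨ret⟩ := K231.Cov.nonempty_retract (K231.Cov.isSplitMono_unitToPush k ((𝟙 J) ^ m : J ⟶ J).left J.hom)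
    (VarietyB.TensCoh.HasBases.of_isFinLocFree hE')
  have h0 : ∀ i : ℕ, i ≠ g → IsZero ((TJ P i).obj (RefHull.dual E)) := fun i hi =>
    FMain.isZero_T hsd hL hsym hP hPP hm hr hM hM' hE' ret eE' i (subsingleton_dual hJ.dim hB i hi)
  refine ⟨h0, ?_⟩
  obtain ⟨n, ⟨e⟩⟩ := FMain.exists_iso hsd hL hsym hP hPP hm hr hM hM' hE' ret eE' g
  have hq : Coh.IsQCoh ((TJ P g).obj (RefHull.dual E)) :=
    CohqA.RelCoh.isQCoh_Rpush (pullback.snd J.hom J.hom) _ (PerfA.CohSerre.isCoh_of_isFinLocFree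
      (Sga67.LocBasis.isFinLocFree_tensorMod (PerfB.FlatPull.isFinLocFree_pullback (pullback.fst J.hom J.hom) hE')
        (K232.FMInv.isFinLocFree_of_isInvertible hP))).1 g
  have hrank : FlatMod.IsFinLocFreeOfRank n ((TJ P g).obj (RefHull.dual E)) :=
    FMain.rank_of_iso hq (Nat.mul_pos hr hm) (Fdesc.LocGen.isInvertible_tensorPow hL _) e
  refine ⟨n, ?_, hrank, ⟨e⟩⟩
  rw [RankF.rank_eq hsd hL hP hPP hE' g h0 hrank]
  exact (RankF.finrank_dual hJ.dim hE.locFree g 0 (by omega)).symm

/-- **Node F5a.** `E = E_{m,r}` (so `VerD J L m r v E`): the transform `F` of the dual is finite locally free of rank `h^0(J, E)`,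
and `[r m]^* F ≅ (L^(m^3 r))^(+n)`. -/
theorem fm_of_verD (hJ : PPAV g J L) (hs : Sym J L) [IsCommMonObj J]
    (φJ : AgPol.DualMap J J) (hsd : Jac.IsSelfDual Scheme.fppfPrecoverage J φJ L)
    (P : (pullback J.hom J.hom).Modules) (hP : PicF.IsInvertible P) (hPP : AbDual.IsPoincareCl J J φJ (PicF.cl P))
    [HasInjectiveResolutions (pullback J.hom J.hom).Modules]
    {r m v : ℕ} (hr : 1 ≤ r) (hm : 1 ≤ m) {E : J.left.Modules} (hE : VerD J L m r v E) :
    ∃ n : ℕ, n = @Module.finrank k (Coh.HH J.left E 0) _ _ (@Coh.moduleOver k _ J.left ⟨J.hom⟩ E 0) ∧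
      FlatMod.IsFinLocFreeOfRank n (FM g P E) ∧
      Nonempty ((Scheme.Modules.pullback ((𝟙 J) ^ (r * m) : J ⟶ J).left).obj (FM g P E) ≅
        ∐ fun _ : Fin n => CohB1.tensorPow L (m ^ 3 * r)) :=
  (fm_data hJ hs φJ hsd P hP hPP hr hm hE).2

end K242.FMFinal
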