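import Groth.Agent.VarietyB.PullLoc
import Groth.Agent.VarietyB.TensCoh
import Groth.Agent.CurvesB.HZero

/-!
# Nonvanishing of morphisms of modules at points

* `exists_open` : a nonzero morphism `θ : A ⟶ B` on a reduced scheme, `B` finite locally free: there is a non-empty open
  `Ω` such that `t^* θ ≠ 0` for every `t : T ⟶ W` with `T` non-empty and image in `Ω`;
* `ne_zero_of_comp` : `f^* θ ≠ 0` if `(x ≫ f)^* θ ≠ 0`;
* `exists_section` : a nonzero morphism `π^* N ⟶ B`, `π : X ⟶ S` with `S` a one point scheme, gives a nonzero global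
  section of `B`.
-/

set_option autoImplicit false
universe u

open CategoryTheory CategoryTheory.Limits AlgebraicGeometry TopologicalSpace

namespace K242.Nonvan

open Groth.Agent Groth.Agent.VarietyB.TensLoc Groth.Agent.VarietyB.TensCoh
open Groth.Agent.Fdesc.LocGen (pullSec pullSec_smul)

variable {W : Scheme.{u}} {A B : W.Modules}

theorem map_pullSec {X Y : Scheme.{u}} (f : X ⟶ Y) {E E' : Y.Modules} (α : E ⟶ E') {U : Y.Opens} (e : Γ(E, U)) :
    ((Scheme.Modules.pullback f).map α).app (f ⁻¹ᵁ U) (pullSec f e) = pullSec f (α.app U e) := by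
  have h := (Scheme.Modules.pullbackPushforwardAdjunction f).unit.naturality α
  have h2 := congr($(h).app U e)
  exact h2.symm

theorem pullSec_sum {X Y : Scheme.{u}} (f : X ⟶ Y) {M : Y.Modules} {U : Y.Opens} {ι : Type*} (s : Finset ι)
    (m : ι → Γ(M, U)) : pullSec f (∑ j ∈ s, m j) = ∑ j ∈ s, pullSec f (m j) :=
  map_sum (((Scheme.Modules.pullbackPushforwardAdjunction f).unit.app M).app U).hom m s

/-- A section with a coordinate invertible on the image of `t` has nonzero pull back. -/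
theorem pullSec_ne_zero {U : W.Opens} {n : ℕ} {e : Fin n → Γ(B, U)} (he : IsBasis B U e) (c : Fin n → Γ(W, U))
    (i : Fin n) {T : Scheme.{u}} [Nonempty T] (t : T ⟶ W) (ht : Set.range t ⊆ (W.basicOpen (c i) : Set W)) :
    pullSec t (∑ j, c j • e j) ≠ 0 := by
  intro h0
  have h1 := VarietyB.PullLoc.isBasis_pullSec t he
  rw [pullSec_sum, Finset.sum_congr rfl fun j _ => pullSec_smul t (c j) (e j)] at h0
  have h2 := (h1 (t ⁻¹ᵁ U) le_rfl).1
  have h3 : (fun j => (t.app U (c j) : Γ(T, t ⁻¹ᵁ U))) = 0 := by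
    apply h2
    simp only [res_self, Pi.zero_apply, zero_smul, Finset.sum_const_zero]
    exact h0
  have h4 : (t.app U (c i) : Γ(T, t ⁻¹ᵁ U)) = 0 := congrFun h3 i
  have h5 : t ⁻¹ᵁ (W.basicOpen (c i)) = T.basicOpen (t.app U (c i)) := Scheme.preimage_basicOpen t (c i)
  rw [h4, Scheme.basicOpen_zero] at h5
  obtain ⟨y⟩ := ‹Nonempty T›
  have h6 : y ∈ t ⁻¹ᵁ (W.basicOpen (c i)) := ht ⟨y, rfl⟩
  rw [h5] at h6
  exact h6

theorem exists_sec_ne_zero {θ : A ⟶ B} (hθ : θ ≠ 0) : ∃ (V : W.Opens) (a : Γ(A, V)), θ.app V a ≠ 0 := by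
  by_contra h
  push_neg at h
  apply hθ
  refine Scheme.Modules.hom_ext _ _ fun V => ?_
  ext a
  exact h V a

/-- **Generic nonvanishing.** -/
theorem exists_open [IsReduced W] (hB : HasBases B) {θ : A ⟶ B} (hθ : θ ≠ 0) :
    ∃ Ω : W.Opens, (Ω : Set W).Nonempty ∧ ∀ {T : Scheme.{u}} [Nonempty T] (t : T ⟶ W),
      Set.range t ⊆ (Ω : Set W) → (Scheme.Modules.pullback t).map θ ≠ 0 := by
  obtain ⟨V, a, ha⟩ := exists_sec_ne_zero hθ
  obtain ⟨x, hx, hne⟩ : ∃ x ∈ V, ∀ (V' : W.Opens) (hV' : V' ≤ V), x ∈ V' → res B hV' (θ.app V a) ≠ 0 := by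
    by_contra h
    push_neg at h
    apply ha
    refine eq_of_locally _ _ fun x hx => ?_
    obtain ⟨V', hV', hxV', h0⟩ := h x hx
    exact ⟨V', hV', hxV', by rw [h0]; exact (map_zero _).symm⟩
  obtain ⟨n, U, hxU, e, he⟩ := hB x
  have he' := he.restrict (inf_le_right : V ⊓ U ≤ U)
  obtain ⟨c, hc⟩ := (he' (V ⊓ U) le_rfl).2 (res B inf_le_left (θ.app V a))
  have hc' : ∑ j, c j • res B (inf_le_right : V ⊓ U ≤ U) (e j) = res B inf_le_left (θ.app V a) := by
    simpa only [res_self] using hc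
  obtain ⟨i, hi⟩ : ∃ i, c i ≠ 0 := by
    by_contra h
    push_neg at h
    refine hne (V ⊓ U) inf_le_left ⟨hx, hxU⟩ ?_
    rw [← hc']
    exact Finset.sum_eq_zero fun j _ => by rw [h j, zero_smul]
  refine ⟨W.basicOpen (c i), ?_, ?_⟩
  · by_contra h
    rw [Set.not_nonempty_iff_eq_empty] at h
    apply hi
    rw [← AlgebraicGeometry.basicOpen_eq_bot_iff]
    exact SetLike.coe_injective (by simpa using h)
  · intro T _ t ht h0
    refine pullSec_ne_zero he' c i t ht ?_
    rw [hc']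
    have h1 : pullSec t (res B (inf_le_left : V ⊓ U ≤ V) (θ.app V a)) =
        ((Scheme.Modules.pullback t).map θ).app _ (pullSec t (res A (inf_le_left : V ⊓ U ≤ V) a)) := by
      rw [map_pullSec, app_res]
    rw [h1, h0]
    rfl

/-- `f^* θ ≠ 0` if `(x ≫ f)^* θ ≠ 0`. -/
theorem ne_zero_of_comp {X Y : Scheme.{u}} (x : X ⟶ Y) (f : Y ⟶ W) {θ : A ⟶ B}
    (h : (Scheme.Modules.pullback (x ≫ f)).map θ ≠ 0) : (Scheme.Modules.pullback f).map θ ≠ 0 := by
  intro h0
  apply h
  have h1 := (Scheme.Modules.pullbackComp x f).hom.naturality θ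
  have h2 : (Scheme.Modules.pullback f ⋙ Scheme.Modules.pullback x).map θ = 0 := by
    rw [Functor.comp_map, h0, Functor.map_zero]
  rw [h2, zero_comp] at h1
  rw [← cancel_epi ((Scheme.Modules.pullbackComp x f).hom.app A), comp_zero]
  exact h1.symm

/-- A nonzero morphism `π^* N ⟶ B` from the pull back of a module on a one point scheme gives a nonzero global section. -/
theorem exists_section {X S : Scheme.{u}} [Subsingleton S] (π : X ⟶ S) (N : S.Modules) {B : X.Modules}
    (θ : (Scheme.Modules.pullback π).obj N ⟶ B) (hθ : θ ≠ 0) : ∃ s : Γ(B, ⊤), s ≠ 0 := by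
  let ψ := (Scheme.Modules.pullbackPushforwardAdjunction π).homEquiv N B θ
  have hψ : ψ ≠ 0 := by
    intro h
    apply hθ
    have h2 := ((Scheme.Modules.pullbackPushforwardAdjunction π).homEquiv N B).symm_apply_apply θ
    rw [← h2]
    change ((Scheme.Modules.pullbackPushforwardAdjunction π).homEquiv N B).symm ψ = 0
    rw [h, Adjunction.homEquiv_counit, Functor.map_zero, zero_comp]
  obtain ⟨V, a, ha⟩ := exists_sec_ne_zero hψ
  have hV : V = ⊤ := by
    by_contra hV
    have hV' : V = ⊥ := by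
      ext z
      simp only [Opens.coe_bot, Set.mem_empty_iff_false, iff_false]
      intro hz
      apply hV
      ext w
      simp only [Opens.coe_top, Set.mem_univ, iff_true]
      rwa [Subsingleton.elim w z]
    subst hV'
    apply ha
    exact eq_of_locally _ _ fun x hx => hx.elim
  subst hV
  exact ⟨ψ.app ⊤ a, ha⟩

theorem not_subsingleton_HH {X : Scheme.{u}} {B : X.Modules} (h : ∃ s : Γ(B, ⊤), s ≠ 0) :
    ¬ Subsingleton (Coh.HH X B 0) := by
  obtain ⟨s, hs⟩ := h
  intro hsub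
  apply hs
  apply (CurvesB.HZero.equivAdd B).symm.injective
  exact Subsingleton.elim _ _

end K242.Nonvan
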