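import Groth.Agent.BunMod.K242.FMFinal
import Groth.Agent.Variety.K424.PushLenZ

/-!
# The transform of a positive bundle

`[a]^* F ≅ (L^(a b))^n`, `a, b ≥ 1`: `T_i(F) = 0` for `i ≠ 0`, and `T_0(F) ≠ 0` if `H^0(J, F) ≠ 0`.
-/

set_option autoImplicit false
universe u

open CategoryTheory CategoryTheory.Limits MonoidalCategory CartesianMonoidalCategory MonObj GrpObj
  AlgebraicGeometry

namespace K242.PosF

open Groth.Agent Groth.Agent.Grpsch Groth.Agent.Grpsch.PicGrp Groth.Agent.Grpsch.Cube K242.Der K242.Cls K242.Trans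
open Groth.Agent.BunMod.K596
open K528.MumZero (mumCl)

variable {k : Type u} [Field k] {J : Over (Spec (CommRingCat.of k))} [GrpObj J]

section

variable [IsAlgClosed k] [IsProper J.hom] [Smooth J.hom] [GeometricallyConnected J.hom]
  {φ : AgPol.DualMap J J} {P : (pullback J.hom J.hom).Modules}
  [HasInjectiveResolutions (pullback J.hom J.hom).Modules] {L : J.left.Modules}

theorem lam_pow (hsd : Jac.IsSelfDual Scheme.fppfPrecoverage J φ L) (hL : PicF.IsInvertible L) (n : ℕ) :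
    K732.Dual.cm φ (mumCl J ((mk L hL) ^ n)) = 𝟙 J ^ n := by
  rw [mumCl_pow, K512.PoincPow.cm_pow hsd.1 (mumCl_mem_pz _), lam_one hsd hL]

theorem isZero_free_tens {X : Scheme.{u}} (M : X.Modules) : IsZero (CohB1.tensorMod (FlatMod.freeMod X 0) M) := by
  refine IsZero.of_iso ?_ (FMain.freeTens 0 M)
  rw [IsZero.iff_id_eq_zero]
  exact Limits.Sigma.hom_ext _ _ fun b => b.elim0

/-- `T_i(L^N) = 0` for `i ≠ 0`, `L` ample. -/
theorem isZero_T_pow (hsd : Jac.IsSelfDual Scheme.fppfPrecoverage J φ L) (hL : CohB1.IsAmple L)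
    (hP : PicF.IsInvertible P) (hPP : AbDual.IsPoincareCl J J φ (PicF.cl P)) {N : ℕ} (hN : 1 ≤ N) (i : ℕ)
    (hi : i ≠ 0) : IsZero ((TJ P i).obj (CohB1.tensorPow L N)) := by
  have := K732.AV.geomInt J
  have i1 := MulFin.isFinite_pow J N hN
  have i2 := MulFin.flat_pow J N hN
  have i3 := MulFin.surjective_pow J N hN
  have i4 := MulFin.isSeparated_left J
  let _ : J.left.Over (Spec (CommRingCat.of k)) := ⟨J.hom⟩
  have i8 : IsProper (J.left ↘ Spec (CommRingCat.of k)) := inferInstanceAs (IsProper J.hom)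
  have hint : IsIntegral J.left := GeometricallyIntegral.isIntegral_of_subsingleton J.hom
  have i9 : IsNoetherian J.left := VarietyA.TwistExist.isNoetherian k J.left
  have hB : CohB1.IsAmple (CohB1.tensorPow L N) := (Groth.Agent.S2327.result J.left L hL.1 _ hN).mp hL
  have hν : K732.Dual.cm φ (mumCl J (mk _ hB.1)) = 𝟙 J ^ N := by
    rw [← lam_pow hsd hL.1 N, ← mk_tensorPow hL.1 N]
  obtain ⟨e⟩ := nonempty_T_inv_of hsd.1 hP hPP hB.1 (K476.HomSh6.nonempty_tensor_dual hB.1) (𝟙 J ^ N) hν i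
  have h1 : Subsingleton (Coh.HH J.left (CohB1.tensorPow L N) i) := K511.AmpleVan.vanish J _ hB i (by omega)
  have h0 : @Module.finrank k (Coh.HH J.left (CohB1.tensorPow L N) i) _ _
      (@Coh.moduleOver k _ J.left ⟨J.hom⟩ (CohB1.tensorPow L N) i) = 0 :=
    @Module.finrank_zero_of_subsingleton _ _ _ _ (@Coh.moduleOver k _ J.left ⟨J.hom⟩ _ _) _ h1
  refine PerfB.FlatPull.isZero_of_isZero_pullback (f := (𝟙 J ^ N).left) _ (IsZero.of_iso ?_ e)
  rw [h0]
  exact isZero_free_tens _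

/-- `T_i(F) = 0` if `F` is a retract of `[a]_*[a]^* F`, `[a]^*F ≅ (L^N)^n`. -/
theorem isZero_T [IsCommMonObj J] (hsd : Jac.IsSelfDual Scheme.fppfPrecoverage J φ L) (hL : CohB1.IsAmple L)
    (hP : PicF.IsInvertible P) (hPP : AbDual.IsPoincareCl J J φ (PicF.cl P)) {a N n : ℕ} (ha : 1 ≤ a) (hN : 1 ≤ N)
    {F : J.left.Modules} (hF : FlatMod.IsFinLocFree F) (ret : Retract F ((Scheme.Modules.pushforward (𝟙 J ^ a).left).obj
      ((Scheme.Modules.pullback (𝟙 J ^ a).left).obj F)))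
    (eF : (Scheme.Modules.pullback (𝟙 J ^ a).left).obj F ≅ ∐ fun _ : Fin n => CohB1.tensorPow L N) (i : ℕ)
    (hi : i ≠ 0) : IsZero ((TJ P i).obj F) := by
  have hq : Coh.IsQCoh ((Scheme.Modules.pullback (𝟙 J ^ a).left).obj F) :=
    (PerfA.CohSerre.isCoh_of_isFinLocFree (PerfB.FlatPull.isFinLocFree_pullback (𝟙 J ^ a).left hF)).1
  obtain ⟨e1⟩ := nonempty_T_push hsd.1 hP hPP ha hq i
  have hz := isZero_T_pow hsd hL hP hPP hN i hi
  have hz1 : IsZero ((TJ P i).obj ((Scheme.Modules.pullback (𝟙 J ^ a).left).obj F)) := by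
    refine IsZero.of_iso ?_ ((TJ P i).mapIso eF ≪≫ PreservesCoproduct.iso (TJ P i) _)
    rw [IsZero.iff_id_eq_zero]
    exact Limits.Sigma.hom_ext _ _ fun b => hz.eq_of_src _ _
  have hz2 := (Scheme.Modules.pullback (𝟙 J ^ a).left).map_isZero hz1
  have ρ := ret.map (TJ P i)
  rw [IsZero.iff_id_eq_zero, ← ρ.retract, (hz2.of_iso e1).eq_of_tgt ρ.i 0, zero_comp]

end

variable [IsAlgClosed k] [CharZero k] {L : J.left.Modules} {g : ℕ}

/-- `p_{2*}(p_1^* F ⊗ P) ≠ 0` if `H^0(J, F) ≠ 0`, `[a]^* F ≅ (L^(a b))^n`. -/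
theorem not_isZero_push (hJ : PPAV g J L) [IsCommMonObj J]
    (φJ : AgPol.DualMap J J) (hsd : Jac.IsSelfDual Scheme.fppfPrecoverage J φJ L)
    (P : (pullback J.hom J.hom).Modules) (hP : PicF.IsInvertible P) (hPP : AbDual.IsPoincareCl J J φJ (PicF.cl P))
    [HasInjectiveResolutions (pullback J.hom J.hom).Modules]
    {a b n : ℕ} (ha : 1 ≤ a) (hb : 1 ≤ b) {F : J.left.Modules} (hF : VerD J L a b n F)
    (h0 : @Module.finrank k (Coh.HH J.left F 0) _ _ (@Coh.moduleOver k _ J.left ⟨J.hom⟩ F 0) ≠ 0) :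
    ¬ IsZero ((Scheme.Modules.pushforward (pullback.snd J.hom J.hom)).obj
      (CohB1.tensorMod ((Scheme.Modules.pullback (pullback.fst J.hom J.hom)).obj F) P)) := by
  have i1 := hJ.proper
  have i2 := hJ.smooth
  have i3 := hJ.gconn
  have i4 := hJ.gint
  have hint : IsIntegral J.left := GeometricallyIntegral.isIntegral_of_subsingleton J.hom
  have i5 := MulFin.isFinite_pow J a ha
  have i6 := MulFin.flat_pow J a ha
  have i7 := MulFin.surjective_pow J a ha
  obtain ⟨eF⟩ := hF.iso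
  have i10 : LocallyOfFinitePresentation ((𝟙 J) ^ a : J ⟶ J).left := by
    have h1 : ((a : ℤ) : k) ≠ 0 := by
      rw [Int.cast_natCast]
      exact Nat.cast_ne_zero.2 (by omega)
    have h2 := AbBC.etale_zpow J h1
    rw [zpow_natCast] at h2
    infer_instance
  obtain ⟨ret⟩ := K231.Cov.nonempty_retract (K231.Cov.isSplitMono_unitToPush k ((𝟙 J) ^ a : J ⟶ J).left J.hom)
    (VarietyB.TensCoh.HasBases.of_isFinLocFree hF.locFree)
  have h1 : ∀ i : ℕ, i ≠ 0 → IsZero ((TJ P i).obj F) := fun i hi =>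
    isZero_T hsd hJ.ample hP hPP ha (Nat.mul_pos ha hb) hF.locFree ret eF i hi
  intro hz
  have hz' : IsZero ((TJ P 0).obj F) := hz.of_iso ((K424.PushLenZ.rpushZero (pullback.snd J.hom J.hom)).app _)
  have h2 := RankF.rank_eq hsd hJ.inv hP hPP hF.locFree 0 h1 (K317.Sums.rank_zero_of_isZero hz')
  exact h0 h2.symm

end K242.PosF
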