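import Groth.Agent.BunMod.K242.Cls
import Groth.Agent.BunMod.K242.Nonvan
import Groth.Agent.AbVar.K505.PoincareWeak
import Groth.Agent.AbVar.K512.Pts
import Groth.Agent.AbVar.K512.Phi
import Groth.Agent.ASBun.K791.Tens
import Groth.Agent.Ega2.Tens
import Groth.Agent.Sga67.LocBasisOps
import Groth.Agent.PerfB.FlatPull
import Groth.Agent.AbVar.K232.FMInv

/-!
# Sections on a translate of a curve in its Jacobian

`(J, L)` with self duality, `P` the Poincaré module, `F` finite locally free on `J` with `p_{2*}(p_1^* F ⊗ P) ≠ 0`.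
For every `j : X ⟶ J` there are a point `ξ₀` and a non-empty open `U` such that, for `ξ ∈ U` and
`P_ξ` the line bundle of `ξ`, `H^0(X, (t_{ξ₀} ∘ j)^*(F ⊗ P_ξ)) ≠ 0`.
-/

set_option autoImplicit false
universe u

open CategoryTheory CategoryTheory.Limits MonoidalCategory CartesianMonoidalCategory MonObj GrpObj
  AlgebraicGeometry

namespace K242.Transl

open Groth.Agent Groth.Agent.Grpsch Groth.Agent.Grpsch.PicGrp Groth.Agent.Grpsch.Cube K242.Cls
open K528.MumZero (mumCl)

variable {k : Type u} [Field k] {J : Over (Spec (CommRingCat.of k))} [GrpObj J]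

/-- The counit `q^* q_* 𝓕 ⟶ 𝓕` is nonzero if `q_* 𝓕` is nonzero. -/
theorem counit_ne_zero {W Y : Scheme.{u}} (q : W ⟶ Y) {𝓕 : W.Modules}
    (h : ¬ IsZero ((Scheme.Modules.pushforward q).obj 𝓕)) :
    (Scheme.Modules.pullbackPushforwardAdjunction q).counit.app 𝓕 ≠ 0 := by
  intro h0
  apply h
  rw [IsZero.iff_id_eq_zero]
  have h1 := (Scheme.Modules.pullbackPushforwardAdjunction q).right_triangle_components 𝓕
  rw [h0, Functor.map_zero, comp_zero] at h1
  exact h1.symm

/-- The restriction of the Poincaré module to `J × {ξ}` is `P_ξ`. -/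
theorem nonempty_ptBundle [IsProper J.hom] [Smooth J.hom] [GeometricallyConnected J.hom]
    {φ : AgPol.DualMap J J} {L : J.left.Modules} (hsd : Jac.IsSelfDual Scheme.fppfPrecoverage J φ L)
    (hL : PicF.IsInvertible L) {P : (pullback J.hom J.hom).Modules} (hP : PicF.IsInvertible P)
    (hPP : AbDual.IsPoincareCl J J φ (PicF.cl P)) (ξ : 𝟙_ (Over (Spec (CommRingCat.of k))) ⟶ J)
    {Pξ : J.left.Modules} (hξ : Jac.IsPtBundle J L ξ Pξ) :
    Nonempty ((Scheme.Modules.pullback (lift (𝟙 J) (toUnit J ≫ ξ)).left).obj P ≅ Pξ) := by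
  obtain ⟨hi, ⟨e⟩⟩ := hξ
  rw [← mk_eq_iff (Fdesc.LocGen.isInvertible_pullback _ hP) hi]
  have h1 : mk _ (Fdesc.LocGen.isInvertible_pullback (lift (𝟙 J) (toUnit J ≫ ξ)).left hP) =
      pull (lift (𝟙 J) (toUnit J ≫ ξ)).left (mumCl J (mk L hL)) := by
    rw [← mk_poinc hsd hL hP hPP]; rfl
  rw [h1]
  refine (K528.MumZero.pull_lift_mumCl J _ _ _).trans ?_
  have h3 : pull (toUnit J ≫ ξ).left (mk L hL) = 1 := by
    have h4 : pl (toUnit J ≫ ξ) (mk L hL) = 1 := by
      rw [pl_comp, pic_spec_local k (pl ξ (mk L hL)), map_one]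
    exact h4
  have h5 : pull (𝟙 J : J ⟶ J).left (mk L hL) = mk L hL := pull_id _
  have h6 : mk L hL * mk Pξ hi = pull (Jac.transl J ξ).left (mk L hL) := by
    rw [mk_mul_mk, pull_mk]
    exact mk_congr e
  rw [h3, h5, inv_one, _root_.mul_one]
  change pull (Jac.transl J ξ).left (mk L hL) * (mk L hL)⁻¹ = _
  rw [← h6, mul_comm (mk L hL), mul_inv_cancel_right]

variable [IsAlgClosed k]

theorem exists_closed {Z : Scheme.{u}} [JacobsonSpace Z] (Ω : Z.Opens) (hΩ : (Ω : Set Z).Nonempty) :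
    ∃ z : Z, z ∈ Ω ∧ IsClosed ({z} : Set Z) := by
  have hd : Dense (closedPoints Z) := by
    rw [dense_iff_closure_eq, closure_closedPoints]
  obtain ⟨z, hz1, hz2⟩ := hd.inter_open_nonempty (Ω : Set Z) Ω.isOpen hΩ
  exact ⟨z, hz1, hz2⟩

omit [GrpObj J] [IsAlgClosed k] in
theorem point_comp (t : 𝟙_ (Over (Spec (CommRingCat.of k))) ⟶ J ⊗ J) :
    (t ≫ snd J J) ≫ lift (toUnit J ≫ (t ≫ fst J J)) (𝟙 J) = t := by
  refine CartesianMonoidalCategory.hom_ext _ _ ?_ ?_
  · rw [Category.assoc, lift_fst, ← Category.assoc, toUnit_unique ((t ≫ snd J J) ≫ toUnit J) (𝟙 _),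
      Category.id_comp]
  · rw [Category.assoc, lift_snd, Category.comp_id]

/-- **Main geometric step.** -/
theorem exists_transl [IsProper J.hom] [Smooth J.hom] [GeometricallyConnected J.hom] [IsCommMonObj J]
    {φ : AgPol.DualMap J J} {L : J.left.Modules} (hsd : Jac.IsSelfDual Scheme.fppfPrecoverage J φ L)
    (hL : PicF.IsInvertible L) {P : (pullback J.hom J.hom).Modules} (hP : PicF.IsInvertible P)
    (hPP : AbDual.IsPoincareCl J J φ (PicF.cl P)) {F : J.left.Modules} (hF : FlatMod.IsFinLocFree F)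
    (hT : ¬ IsZero ((Scheme.Modules.pushforward (pullback.snd J.hom J.hom)).obj
      (CohB1.tensorMod ((Scheme.Modules.pullback (pullback.fst J.hom J.hom)).obj F) P)))
    (X : Over (Spec (CommRingCat.of k))) [LocallyOfFiniteType X.hom] [Nonempty X.left] (j : X ⟶ J) :
    ∃ (ξ₀ : 𝟙_ (Over (Spec (CommRingCat.of k))) ⟶ J) (U : J.left.Opens), (U : Set ↥J.left).Nonempty ∧
      ∀ (ξ : 𝟙_ (Over (Spec (CommRingCat.of k))) ⟶ J), Set.range ξ.left.base ⊆ (U : Set ↥J.left) →
        ∀ (Pξ : J.left.Modules), Jac.IsPtBundle J L ξ Pξ →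
          ¬ Subsingleton (Coh.HH X.left ((Scheme.Modules.pullback (j ≫ Jac.transl J ξ₀).left).obj
            (CohB1.tensorMod F Pξ)) 0) := by
  have hgi := K732.AV.geomInt J
  have hint : IsIntegral J.left := GeometricallyIntegral.isIntegral_of_subsingleton J.hom
  have hW : IsIntegral (J ⊗ J).left := K505.PoincareWeak.isIntegral_tensor J J
  let 𝓕 : (J ⊗ J).left.Modules := CohB1.tensorMod ((Scheme.Modules.pullback (pullback.fst J.hom J.hom)).obj F) P
  have h𝓕 : VarietyB.TensCoh.HasBases 𝓕 := VarietyB.TensCoh.HasBases.of_isFinLocFree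
    (Sga67.LocBasis.isFinLocFree_tensorMod (PerfB.FlatPull.isFinLocFree_pullback (pullback.fst J.hom J.hom) hF)
      (K232.FMInv.isFinLocFree_of_isInvertible hP))
  let q : (J ⊗ J).left ⟶ J.left := (snd J J).left
  have hev := counit_ne_zero q (𝓕 := 𝓕) hT
  obtain ⟨Ω, hΩ, hΩ'⟩ := Nonvan.exists_open h𝓕 hev
  have hJac : JacobsonSpace (J ⊗ J).left := LocallyOfFiniteType.jacobsonSpace (J ⊗ J).hom
  obtain ⟨z, hzΩ, hz⟩ := exists_closed Ω hΩ
  obtain ⟨t, ht⟩ := K512.Pts.exists_pt (A := J ⊗ J) z hz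
  have hJac' : JacobsonSpace X.left := LocallyOfFiniteType.jacobsonSpace X.hom
  obtain ⟨x, -, hx⟩ := exists_closed (⊤ : X.left.Opens) Set.univ_nonempty
  obtain ⟨x₀, -⟩ := K512.Pts.exists_pt (A := X) x hx
  let a := t ≫ fst J J
  let s : J ⟶ J ⊗ J := lift (toUnit J ≫ a) (𝟙 J)
  refine ⟨(x₀ ≫ j)⁻¹ * a, s.left ⁻¹ᵁ Ω, ?_, ?_⟩
  · refine ⟨(t ≫ snd J J).left (IsLocalRing.closedPoint k), ?_⟩
    change s.left ((t ≫ snd J J).left (IsLocalRing.closedPoint k)) ∈ Ω
    rw [← Scheme.Hom.comp_apply, ← Over.comp_left, point_comp t, ht]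
    exact hzΩ
  · intro ξ hξ Pξ hPξ
    let i₀ : J ⟶ J ⊗ J := lift (𝟙 J) (toUnit J ≫ ξ)
    let j' : X ⟶ J := j ≫ Jac.transl J ((x₀ ≫ j)⁻¹ * a)
    let κ : X ⟶ J ⊗ J := j' ≫ i₀
    have hx0 : x₀ ≫ κ = ξ ≫ s := by
      refine CartesianMonoidalCategory.hom_ext _ _ ?_ ?_
      · have h4 : x₀ ≫ j' = a := by
          change x₀ ≫ j ≫ K512.Phi.tr ((x₀ ≫ j)⁻¹ * a) = a
          rw [← Category.assoc, K512.Phi.comp_tr, toUnit_unique (toUnit (𝟙_ (Over (Spec (CommRingCat.of k))))) (𝟙 _),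
            Category.id_comp, mul_inv_cancel_left]
        rw [Category.assoc, Category.assoc, lift_fst, Category.comp_id, h4, Category.assoc, lift_fst,
          ← Category.assoc, toUnit_unique (ξ ≫ toUnit J) (𝟙 _), Category.id_comp]
      · have h5 : (x₀ ≫ κ) ≫ snd J J = ξ := by
          have h6 : κ ≫ snd J J = toUnit X ≫ ξ := by
            rw [Category.assoc, lift_snd, ← Category.assoc, toUnit_unique (j' ≫ toUnit J) (toUnit X)]
          rw [Category.assoc, h6, ← Category.assoc, toUnit_unique (x₀ ≫ toUnit X) (𝟙 _), Category.id_comp]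
        have h7 : (ξ ≫ s) ≫ snd J J = ξ := by
          rw [Category.assoc, lift_snd, Category.comp_id]
        rw [h5, h7]
    have hne : Nonempty ↥(𝟙_ (Over (Spec (CommRingCat.of k)))).left := ⟨IsLocalRing.closedPoint k⟩
    have h1 : (Scheme.Modules.pullback (x₀.left ≫ κ.left)).map
        ((Scheme.Modules.pullbackPushforwardAdjunction q).counit.app 𝓕) ≠ 0 := by
      refine hΩ' (x₀.left ≫ κ.left) ?_
      rw [← Over.comp_left, hx0, Over.comp_left]
      rintro _ ⟨y, rfl⟩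
      rw [Scheme.Hom.comp_apply]
      exact hξ ⟨y, rfl⟩
    have h2 := Nonvan.ne_zero_of_comp x₀.left κ.left h1
    let N := (Scheme.Modules.pushforward q).obj 𝓕
    have hw : X.hom ≫ ξ.left = κ.left ≫ q := by
      have h3 : κ ≫ snd J J = toUnit X ≫ ξ := by
        rw [Category.assoc, lift_snd, ← Category.assoc, toUnit_unique (j' ≫ toUnit J) (toUnit X)]
      exact (congrArg (fun f => f.left) h3).symm
    let e : (Scheme.Modules.pullback X.hom).obj ((Scheme.Modules.pullback ξ.left).obj N) ≅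
        (Scheme.Modules.pullback κ.left).obj ((Scheme.Modules.pullback q).obj N) :=
      (Scheme.Modules.pullbackComp _ _).app _ ≪≫ (Scheme.Modules.pullbackCongr hw).app _ ≪≫
        ((Scheme.Modules.pullbackComp _ _).app _).symm
    obtain ⟨eP⟩ := nonempty_ptBundle hsd hL hP hPP ξ hPξ
    have hw2 : i₀.left ≫ pullback.fst J.hom J.hom = 𝟙 J.left :=
      congrArg (fun f => f.left) (lift_fst (𝟙 J) (toUnit J ≫ ξ))
    let e2 : (Scheme.Modules.pullback i₀.left).obj 𝓕 ≅ CohB1.tensorMod F Pξ :=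
      ASBun.K791.Tens.pullTens i₀.left _ _ ≪≫ Ega2.Tens.mapTIso
        ((Scheme.Modules.pullbackComp _ _).app _ ≪≫ (Scheme.Modules.pullbackCongr hw2).app _ ≪≫
          (Scheme.Modules.pullbackId J.left).app _) eP
    let e3 : (Scheme.Modules.pullback κ.left).obj 𝓕 ≅ (Scheme.Modules.pullback j'.left).obj (CohB1.tensorMod F Pξ) :=
      ((Scheme.Modules.pullbackComp j'.left i₀.left).app _).symm ≪≫ (Scheme.Modules.pullback j'.left).mapIso e2
    refine Nonvan.not_subsingleton_HH (Nonvan.exists_section X.hom ((Scheme.Modules.pullback ξ.left).obj N)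
      (e.hom ≫ (Scheme.Modules.pullback κ.left).map
        ((Scheme.Modules.pullbackPushforwardAdjunction q).counit.app 𝓕) ≫ e3.hom) ?_)
    intro h0
    apply h2
    rw [← cancel_epi e.hom, ← cancel_mono e3.hom, Category.assoc, h0, comp_zero, zero_comp]

end K242.Transl
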