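import Groth.Agent.BunMod.K242.PosF
import Groth.Agent.BunMod.K242.Transl
import Groth.Agent.BunMod.K808.Verl

/-!
# `S16934` from the data on the Jacobian

* `verD_fm` : the transform `F` of `E^∨` satisfies `VerD J L (r m) (m^2) n F`, `n = h^0(J, E) > 0`;
* `main` : the conclusion of `S16934` for `E` with `VerD J L m r v E`.
-/

set_option autoImplicit false
universe u

open CategoryTheory CategoryTheory.Limits MonoidalCategory CartesianMonoidalCategory MonObj GrpObj
  AlgebraicGeometry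

namespace K242.Row34

open Groth.Agent Groth.Agent.BunMod.K596 K242.FMFinal

variable {k : Type u} [Field k] [IsAlgClosed k] [CharZero k] {J : Over (Spec (CommRingCat.of k))} [GrpObj J]
  {L : J.left.Modules} {g : ℕ}

/-- The transform is again a Verlinde type bundle. -/
theorem verD_fm (hJ : PPAV g J L) (hs : Sym J L) [IsCommMonObj J]
    (φJ : AgPol.DualMap J J) (hsd : Jac.IsSelfDual Scheme.fppfPrecoverage J φJ L)
    (P : (pullback J.hom J.hom).Modules) (hP : PicF.IsInvertible P) (hPP : AbDual.IsPoincareCl J J φJ (PicF.cl P))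
    [HasInjectiveResolutions (pullback J.hom J.hom).Modules]
    {r m v : ℕ} (hr : 1 ≤ r) (hm : 1 ≤ m) {E : J.left.Modules} (hE : VerD J L m r v E) :
    ∃ n : ℕ, n = @Module.finrank k (Coh.HH J.left E 0) _ _ (@Coh.moduleOver k _ J.left ⟨J.hom⟩ E 0) ∧
      FlatMod.IsFinLocFreeOfRank n (FM g P E) ∧ VerD J L (r * m) (m ^ 2) n (FM g P E) := by
  obtain ⟨n, hn, h1, h2⟩ := fm_of_verD hJ hs φJ hsd P hP hPP hr hm hE
  have h3 := K808.Verl.h0_of_verD hJ hm hr hE
  rw [← hn] at h3
  have hpos : 0 < n := by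
    rcases Nat.eq_zero_or_pos n with h | h
    · rw [h, Nat.zero_mul] at h3
      exact absurd h3.symm (Nat.mul_pos hE.pos (Nat.pow_pos hr)).ne'
    · exact h
  refine ⟨n, hn, h1, Krr.H463.DualLam.isFinLocFree_of_rank h1, hpos, ?_⟩
  have e : r * m * m ^ 2 = m ^ 3 * r := by ring
  rw [e]
  exact h2

/-- **The conclusion of `S16934`** for a Verlinde type bundle on a principally polarised abelian variety. -/
theorem main (hJ : PPAV g J L) (hs : Sym J L) [IsCommMonObj J]
    (φJ : AgPol.DualMap J J) (hsd : Jac.IsSelfDual Scheme.fppfPrecoverage J φJ L)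
    (P : (pullback J.hom J.hom).Modules) (hP : PicF.IsInvertible P) (hPP : AbDual.IsPoincareCl J J φJ (PicF.cl P))
    [HasInjectiveResolutions (pullback J.hom J.hom).Modules]
    {r m v : ℕ} (hr : 1 ≤ r) (hm : 1 ≤ m) {E : J.left.Modules} (hE : VerD J L m r v E)
    (X : Over (Spec (CommRingCat.of k))) [LocallyOfFiniteType X.hom] [Nonempty X.left] (j : X ⟶ J) :
    ∃ (ξ₀ : 𝟙_ (Over (Spec (CommRingCat.of k))) ⟶ J) (U : J.left.Opens), (U : Set ↥J.left).Nonempty ∧
      ∀ (ξ : 𝟙_ (Over (Spec (CommRingCat.of k))) ⟶ J), Set.range ξ.left.base ⊆ (U : Set ↥J.left) →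
        ∀ (Pξ : J.left.Modules), Jac.IsPtBundle J L ξ Pξ →
          ¬ Subsingleton (Coh.HH X.left ((Scheme.Modules.pullback (j ≫ Jac.transl J ξ₀).left).obj
            (CohB1.tensorMod (FM g P E) Pξ)) 0) := by
  have i1 := hJ.proper
  have i2 := hJ.smooth
  have i3 := hJ.gconn
  obtain ⟨n, -, h1, h2⟩ := verD_fm hJ hs φJ hsd P hP hPP hr hm hE
  have ha : 1 ≤ r * m := Nat.mul_pos hr hm
  have hb : 1 ≤ m ^ 2 := Nat.pow_pos hm
  have h3 := K808.Verl.h0_of_verD hJ ha hb h2
  refine Transl.exists_transl hsd hJ.inv hP hPP h2.locFree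
    (PosF.not_isZero_push hJ φJ hsd P hP hPP ha hb h2 fun h0 => ?_) X j
  rw [h0, Nat.zero_mul] at h3
  exact absurd h3.symm (Nat.mul_pos h2.pos (Nat.pow_pos hb)).ne'

end K242.Row34
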