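import Groth.Agent.LoccohB.TopRepNat
import Groth.Agent.Ega3B.LocFree

/-!
# Direct images to the spectrum of a field

`R^n a_* F` is free of rank `dim H^n(X, F)`, `a : X ⟶ Spec k` proper, `F` coherent.
-/

set_option autoImplicit false
universe u

open CategoryTheory CategoryTheory.Limits AlgebraicGeometry

namespace K242.SpecK

open Groth.Agent

theorem nonempty_iso_free {R : CommRingCat.{u}} {N : (Spec R).Modules} [N.IsQuasicoherent] {n : ℕ}
    (e : Γ(N, ⊤) ≃ₗ[R] (Fin n → R)) : Nonempty (N ≅ FlatMod.freeMod (Spec R) n) :=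
  ⟨(Ega3B.LocFree.isoTilde N).symm ≪≫ (tilde.functor R).mapIso (e.toModuleIso) ≪≫
    Ega3B.LocFree.tildePiIso R n⟩

/-- A quasi-coherent module on `Spec R` whose sections are `R^n` is free. -/
theorem nonempty_iso_free' {R : CommRingCat.{u}} {N : (Spec R).Modules} [N.IsQuasicoherent] {n : ℕ}
    {V : Type u} [AddCommGroup V] [Module R V] (e : Γ(N, ⊤) ≃+ V)
    (he : ∀ (r : R) (s : Γ(N, ⊤)), e ((show Γ(Spec R, ⊤) from (Scheme.ΓSpecIso R).inv r) • s) = r • e s)
    (f : V ≃ₗ[R] (Fin n → R)) : Nonempty (N ≅ FlatMod.freeMod (Spec R) n) := by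
  let e1 : Γ(N, ⊤) ≃ₗ[R] V :=
    { e with
      map_smul' := fun r s => by
        refine Eq.trans ?_ (he r s)
        change e (r • s) = _
        rw [Scheme.Modules.smul_Spec_def]
        congr 2 }
  exact nonempty_iso_free (e1.trans f)

variable (k : Type u) [Field k] (X : Scheme.{u}) [X.Over (Spec (CommRingCat.of k))]
  [HasInjectiveResolutions X.Modules]

/-- `R^n a_* F` is free of rank `dim H^n(X, F)`. -/
theorem nonempty_rpush_iso_free [QuasiCompact (X ↘ Spec (CommRingCat.of k))]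
    [QuasiSeparated (X ↘ Spec (CommRingCat.of k))] {F : X.Modules} (hF : Coh.IsQCoh F) (n : ℕ)
    [FiniteDimensional k (Coh.HH X F n)] :
    Nonempty ((Coh.Rpush (X ↘ Spec (CommRingCat.of k)) n).obj F ≅
      FlatMod.freeMod (Spec (CommRingCat.of k)) (Module.finrank k (Coh.HH X F n))) := by
  have hN : ((Coh.Rpush (X ↘ Spec (CommRingCat.of k)) n).obj F).IsQuasicoherent :=
    CohqA.RelCoh.isQCoh_Rpush _ F hF n
  exact nonempty_iso_free' (R := CommRingCat.of k)
    (LoccohB.TopRepSec.beta (X ↘ Spec (CommRingCat.of k)) n F hF)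
    (fun r s => LoccohB.TopRepSec.beta_smul (X ↘ Spec (CommRingCat.of k)) n F hF _ s)
    (Module.finBasis k (Coh.HH X F n)).equivFun

end K242.SpecK
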