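import Groth.Agent.BunMod.K54.Supp
import Groth.Agent.BunMod.K311.KVan

/-!
# The theta ideal of a constant family without sections (S16926, node THZ)

`H¹(X, ζ ⊗ N) = 0` (equivalently `H⁰ = 0` when `χ(ζ ⊗ N) = 0`) implies `thetaIdeal k N T (cst k T ζ) = ⊤` for every `T`.
-/

set_option autoImplicit false
universe u

open CategoryTheory CategoryTheory.Limits AlgebraicGeometry

namespace K242.ThetaCst

open K140.BM K54.Theta Groth.Agent

variable {k : Type u} [Field k] {X : Scheme.{u}} [X.Over (Spec (CommRingCat.of k))]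

/-- An ideal sheaf without support is the unit ideal. -/
theorem eq_top_of_support {Y : Scheme.{u}} (I : Y.IdealSheafData) (h : ∀ y : Y, y ∉ I.support) : I = ⊤ := by
  rw [← Scheme.IdealSheafData.support_eq_bot_iff]
  refine SetLike.ext' ?_
  exact Set.eq_empty_iff_forall_notMem.2 h

variable [IsProper (st k X)] (hdim : topologicalKrullDim X ≤ 1)

include hdim in
/-- **(THZ)** -/
theorem thetaIdeal_eq_top {N ζ : X.Modules} (hN : FlatMod.IsFinLocFree N) (hζ : FlatMod.IsFinLocFree ζ)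
    (h : Subsingleton (Coh.HH X (CohB1.tensorMod ζ N) 1)) (T : Over (B0 k)) :
    thetaIdeal k N T (cst k T ζ) = ⊤ := by
  have hζT : ∀ T : Over (B0 k), FlatMod.IsFinLocFree (cst k T ζ) := fun T => isFinLocFree_cst T hζ
  have h0 : thetaIdeal k N (tpt (𝟙 (B0 k))) (cst k (tpt (𝟙 (B0 k))) ζ) = ⊤ := by
    refine eq_top_of_support _ fun y hy => ?_
    have h1 := (K54.Supp.mem_support_iff' hdim hN (hζT (tpt (𝟙 (B0 k)))) (𝟙 (B0 k)) (𝟙 _) y).1 hy
    refine h1 ?_
    have hi : IsIso (pullback.fst (st k X) (tpt (𝟙 (B0 k))).hom) :=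
      inferInstanceAs (IsIso (pullback.fst (st k X) (𝟙 (B0 k))))
    have h2 := K311.KVan.subsingleton_HH_pullback (pullback.fst (st k X) (tpt (𝟙 (B0 k))).hom)
      (CohB1.tensorMod ζ N) (PerfA.QCohEpi.isQCoh_of_isFinLocFree (Sga67.LocBasis.isFinLocFree_tensorMod hζ hN)) 1 h
    refine K311.PushFree.subsingleton_HH_of_iso ?_ h2
    exact ASBun.K791.Tens.pullTens _ _ _ ≪≫ ASBun.K791.Tens.tensMap (cstPl (𝟙 (tpt (𝟙 (B0 k)))) ζ).symm (Iso.refl _)
  let g : T ⟶ tpt (𝟙 (B0 k)) := Over.homMk T.hom (by exact Category.comp_id _)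
  rw [← thetaIdeal_iso hdim hN (PerfC.PullRestrict.isFinLocFree_pullback _ (hζT (tpt (𝟙 (B0 k))))) (hζT T)
    (cstPl g ζ), ← thetaIdeal_pl hdim hN g (hζT (tpt (𝟙 (B0 k)))), h0]
  exact Scheme.IdealSheafData.comap_top _

include hdim in
/-- **(THZ)**, with `H⁰ = 0` and `χ = 0`. -/
theorem thetaIdeal_eq_top_of_h0 {N ζ : X.Modules} (hN : FlatMod.IsFinLocFree N) (hζ : FlatMod.IsFinLocFree ζ)
    (hχ : Curv2.euler k X (CohB1.tensorMod ζ N) = 0) (h : Subsingleton (Coh.HH X (CohB1.tensorMod ζ N) 0))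
    (T : Over (B0 k)) : thetaIdeal k N T (cst k T ζ) = ⊤ := by
  have : IsProper (X ↘ Spec (CommRingCat.of k)) := inferInstanceAs (IsProper (st k X))
  have : IsNoetherian X := K703.Basic.isNoetherian k X
  have hc : Coh.IsCoh (CohB1.tensorMod ζ N) :=
    Models2.FPCoh.isCoh_of_isFP (Desc.FinLocFreeSections.isFP_of_isFinLocFree
      (Sga67.LocBasis.isFinLocFree_tensorMod hζ hN))
  have fin : ∀ i, Module.Finite k (Coh.HH X (CohB1.tensorMod ζ N) i) := fun i => S0002.result k _ _ hc i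
  have h2 := CurvesB.CurveRR.euler_eq k X hdim (CohB1.tensorMod ζ N)
  rw [hχ] at h2
  refine thetaIdeal_eq_top hdim hN hζ ?_ T
  rw [← Module.finrank_zero_iff (R := k)] at h ⊢
  omega

end K242.ThetaCst
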