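import Groth.Agent.BunMod.K242.Cls
import Groth.Agent.BunMod.K242.Der
import Groth.Agent.BunMod.K242.SpecK
import Groth.Agent.S14132
import Groth.Agent.S14146
import Groth.Agent.S0002
import Groth.Agent.PerfA.CohSerre
import Groth.Agent.Grpsch.MulFin
import Groth.Agent.WittGrp.K719.GrpHom

/-!
# The transforms `T_n M = R^n q_* (p^* M ⊗ P)` on a principally polarised abelian variety

* `nonempty_T_push` : `T_n([m]_* G) ≅ [m]^* T_n(G)`;
* `nonempty_T_inv`  : `([n]⁻¹)^* T_i(L^(-n)) ≅ O^h ⊗ L^n`, `h = dim H^i(J, L^(-n))`.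
-/

set_option autoImplicit false
universe u

open CategoryTheory CategoryTheory.Limits MonoidalCategory CartesianMonoidalCategory MonObj GrpObj
  AlgebraicGeometry
attribute [local instance] HasDerivedCategory.standard

namespace K242.Trans

open Groth.Agent Groth.Agent.Grpsch Groth.Agent.Grpsch.PicGrp K242.Der K242.Cls
open K528.MumZero (mumCl)

variable {k : Type u} [Field k] {J : Over (Spec (CommRingCat.of k))} [GrpObj J] [IsProper J.hom]
  [Smooth J.hom] [GeometricallyConnected J.hom]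

/-- `T_n` for the product `J × J`. -/
noncomputable abbrev TJ (P : (pullback J.hom J.hom).Modules) [HasInjectiveResolutions (pullback J.hom J.hom).Modules]
    (n : ℕ) : J.left.Modules ⥤ J.left.Modules :=
  T (pullback.fst J.hom J.hom) (pullback.snd J.hom J.hom) P n

variable {φ : AgPol.DualMap J J} {P : (pullback J.hom J.hom).Modules}
  [HasInjectiveResolutions (pullback J.hom J.hom).Modules]

/-- Direct image under a flat finite homomorphism becomes inverse image under the transpose. -/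
theorem nonempty_T_push_of (hφ : AbDual.IsDualAV Scheme.fppfPrecoverage J J φ) (hP : PicF.IsInvertible P)
    (hPP : AbDual.IsPoincareCl J J φ (PicF.cl P)) (f ft : J ⟶ J) [IsMonHom f] [IsAffineHom f.left] [Flat ft.left]
    (hft : AbDual.IsTranspose f φ φ ft) {G : J.left.Modules} (hG : Coh.IsQCoh G) (n : ℕ) :
    Nonempty ((TJ P n).obj ((Scheme.Modules.pushforward f.left).obj G) ≅
      (Scheme.Modules.pullback ft.left).obj ((TJ P n).obj G)) := by
  have i1 : DCoh.HasLpull (pullback.fst J.hom J.hom) := Dcoh.DerPull.hasLpull _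
  have i2 : DCoh.HasRpush (pullback.snd J.hom J.hom) := Dcoh.DerSch.hasRpush _
  have i3 : DCoh.HasLTensorMod P := PerfB.TensInv.hasLTensorMod_of_isInvertible hP
  have i4 : DCoh.HasRpush f.left := Dcoh.DerSch.hasRpush _
  have i5 : DCoh.HasLpull ft.left := Dcoh.DerPull.hasLpull _
  obtain ⟨e⟩ := S14132.result k J J J J φ hφ φ hφ P hP hPP P hP hPP f ft hft
  have hq : DCoh.IsQCohD (DCoh.inD J.left G) := PerfB.StructFlat.isQCohD_inD hG
  let e1 := e.app ⟨DCoh.inD J.left G, hq⟩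
  obtain ⟨e2⟩ := Dual.H360.ProjAff.nonempty_rpushInD f.left G hG
  exact ⟨(TIso _ _ _ hP n _).symm ≪≫
    (DerivedCategory.homologyFunctor _ (n : ℤ)).mapIso
      ((DCoh.Lpull (pullback.fst J.hom J.hom) ⋙ DCoh.LTensorMod P ⋙ DCoh.Rpush (pullback.snd J.hom J.hom)).mapIso
        e2.symm ≪≫ e1) ≪≫ PerfB.FlatPull.HDLpull ft.left _ n ≪≫
    (Scheme.Modules.pullback ft.left).mapIso (TIso _ _ _ hP n _)⟩

/-- `T_n([m]_* G) ≅ [m]^* T_n(G)`. -/
theorem nonempty_T_push [IsCommMonObj J] (hφ : AbDual.IsDualAV Scheme.fppfPrecoverage J J φ)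
    (hP : PicF.IsInvertible P) (hPP : AbDual.IsPoincareCl J J φ (PicF.cl P)) {m : ℕ} (hm : 1 ≤ m)
    {G : J.left.Modules} (hG : Coh.IsQCoh G) (n : ℕ) :
    Nonempty ((TJ P n).obj ((Scheme.Modules.pushforward (𝟙 J ^ m).left).obj G) ≅
      (Scheme.Modules.pullback (𝟙 J ^ m).left).obj ((TJ P n).obj G)) := by
  have := K732.AV.geomInt J
  have := MulFin.isFinite_pow J m hm
  have := MulFin.flat_pow J m hm
  have := K719.GrpHom.isMonHom_pow (𝟙 J) m
  exact nonempty_T_push_of hφ hP hPP (𝟙 J ^ m) (𝟙 J ^ m) (isTranspose_pow hφ m) hG n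

/-- The key input for invertible modules: `φ_Λ` is given as `ν`. -/
theorem nonempty_lpull_of [IsAlgClosed k] (hφ : AbDual.IsDualAV Scheme.fppfPrecoverage J J φ)
    (hP : PicF.IsInvertible P) (hPP : AbDual.IsPoincareCl J J φ (PicF.cl P)) {M M' : J.left.Modules}
    (hM : PicF.IsInvertible M) (hM' : Nonempty (CohB1.tensorMod M M' ≅ Coh.structureModule J.left))
    (ν : J ⟶ J) (hν : K732.Dual.cm φ (mumCl J (mk M hM)) = ν) [IsFinite ν.left] [Flat ν.left]
    [DCoh.HasLpull (pullback.fst J.hom J.hom)] [DCoh.HasLTensorMod P] [DCoh.HasRpush (pullback.snd J.hom J.hom)]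
    [DCoh.HasLpull ν.left] [DCoh.HasRpush J.hom] [DCoh.HasLpull J.hom] [DCoh.HasLTensorMod M'] :
    Nonempty ((DCoh.Lpull ν.left).obj ((DCoh.Lpull (pullback.fst J.hom J.hom) ⋙ DCoh.LTensorMod P ⋙
        DCoh.Rpush (pullback.snd J.hom J.hom)).obj (DCoh.inD J.left M)) ≅
      (DCoh.LTensorMod M').obj ((DCoh.Lpull J.hom).obj ((DCoh.Rpush J.hom).obj (DCoh.inD J.left M)))) := by
  obtain ⟨hMi, hMi'⟩ := K519.DualBase.mk_inv hM hM'
  let Λ : (PicF.XT J.hom J).Modules := CohB1.tensorMod (CohB1.tensorMod ((Scheme.Modules.pullback μ[J].left).obj M)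
      ((Scheme.Modules.pullback (fst J J).left).obj M')) ((Scheme.Modules.pullback (snd J J).left).obj M')
  have hT1 := Groth.Agent.Fdesc.LocGen.isInvertible_pullback μ[J].left hM
  have hT2 := Groth.Agent.Fdesc.LocGen.isInvertible_pullback (fst J J).left hMi
  have hT3 := Groth.Agent.Fdesc.LocGen.isInvertible_pullback (snd J J).left hMi
  have hΛ : PicF.IsInvertible Λ := Groth.Agent.Fdesc.LocGen.isInvertible_tensorMod
    (Groth.Agent.Fdesc.LocGen.isInvertible_tensorMod hT1 hT2) hT3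
  have e : mk Λ hΛ = mumCl J (mk M hM) := by
    rw [mumCl, ← map_inv, ← map_inv, ← hMi', pull_mk, pull_mk, pull_mk]
    rfl
  have h0 : AbDual.IsPicZeroCl J.hom J (PicF.cl Λ) := by
    have h1 : mk Λ hΛ ∈ K732.PicZero.pz J.hom J := by
      rw [e]; exact mumCl_mem_pz _
    exact K732.PicZero.isPicZeroCl_iff.2 h1
  have hν' : φ J (PicF.cl Λ) = ν := by
    rw [← hν, ← e]
    rfl
  subst hν'
  exact S14146.result k J J φ hφ P hP hPP M hM M' hM' Λ ⟨Iso.refl _⟩ h0

/-- `ν^* T_i(M) ≅ a^*(O^h) ⊗ M⁻¹`, `h = dim H^i(J, M)`, `ν = φ_M`. -/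
theorem nonempty_T_inv_of [IsAlgClosed k] (hφ : AbDual.IsDualAV Scheme.fppfPrecoverage J J φ)
    (hP : PicF.IsInvertible P) (hPP : AbDual.IsPoincareCl J J φ (PicF.cl P)) {M M' : J.left.Modules}
    (hM : PicF.IsInvertible M) (hM' : Nonempty (CohB1.tensorMod M M' ≅ Coh.structureModule J.left))
    (ν : J ⟶ J) (hν : K732.Dual.cm φ (mumCl J (mk M hM)) = ν) [IsFinite ν.left] [Flat ν.left] (i : ℕ) :
    Nonempty ((Scheme.Modules.pullback ν.left).obj ((TJ P i).obj M) ≅
      CohB1.tensorMod (FlatMod.freeMod J.left (@Module.finrank k (Coh.HH J.left M i) _ _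
        (@Coh.moduleOver k _ J.left ⟨J.hom⟩ M i))) M') := by
  have i1 : DCoh.HasLpull (pullback.fst J.hom J.hom) := Dcoh.DerPull.hasLpull _
  have i2 : DCoh.HasRpush (pullback.snd J.hom J.hom) := Dcoh.DerSch.hasRpush _
  have i3 : DCoh.HasLTensorMod P := PerfB.TensInv.hasLTensorMod_of_isInvertible hP
  have i4 : DCoh.HasRpush J.hom := Dcoh.DerSch.hasRpush _
  have i5 : DCoh.HasLpull J.hom := Dcoh.DerPull.hasLpull _
  have i6 : DCoh.HasLpull ν.left := Dcoh.DerPull.hasLpull _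
  obtain ⟨hMi, hMi'⟩ := K519.DualBase.mk_inv hM hM'
  have i7 : DCoh.HasLTensorMod M' := PerfB.TensInv.hasLTensorMod_of_isInvertible hMi
  have i8 := PerfC.RpushTrunc.enoughInjectives J.left
  obtain ⟨e⟩ := nonempty_lpull_of hφ hP hPP hM hM' ν hν
  obtain ⟨e1⟩ := K512.PoincFib.ltHomology hMi ((DCoh.Lpull J.hom).obj ((DCoh.Rpush J.hom).obj (DCoh.inD J.left M))) i
  have e2 := PerfB.FlatPull.HDLpull J.hom ((DCoh.Rpush J.hom).obj (DCoh.inD J.left M)) i
  have e3 := PerfC.RpushSingle.iso J.hom i M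
  let _ : J.left.Over (Spec (CommRingCat.of k)) := ⟨J.hom⟩
  have i9 : IsProper (J.left ↘ Spec (CommRingCat.of k)) := inferInstanceAs (IsProper J.hom)
  have i10 : FiniteDimensional k (Coh.HH J.left M i) :=
    S0002.result k J.left M (PerfA.CohSerre.isCoh_of_isFinLocFree (K232.FMInv.isFinLocFree_of_isInvertible hM)) i
  obtain ⟨e4⟩ := SpecK.nonempty_rpush_iso_free k J.left (F := M) (PerfB.TensInv.isQCoh_of_isInvertible hM) i
  exact ⟨(Scheme.Modules.pullback ν.left).mapIso (TIso _ _ _ hP i _).symm ≪≫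
    (PerfB.FlatPull.HDLpull ν.left _ i).symm ≪≫ (DerivedCategory.homologyFunctor _ (i : ℤ)).mapIso e ≪≫ e1 ≪≫
    Ega2.Tens.mapTIso (e2 ≪≫ (Scheme.Modules.pullback J.hom).mapIso (e3 ≪≫ e4) ≪≫
      PerfB.FlatPull.pullbackFreeMod J.hom _) (Iso.refl _)⟩

end K242.Trans
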